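import Groth.Prelude.Def_PicRel2
import Groth.Agent.PicRelBCLib.Basic
import Groth.Agent.RootAlgzLib.Descend
import Groth.Agent.ConsLib.FGSystem
import Groth.Agent.S5938

/-!
# A scheme representing the relative Picard functor is locally of finite type
-/

set_option autoImplicit false
set_option linter.style.haveILetI false
set_option maxHeartbeats 1000000
universe u

open CategoryTheory CategoryTheory.Limits AlgebraicGeometry TopologicalSpace Opposite RichLib.LimBC
open KFlatLib (pb)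

noncomputable section

namespace PicRepLib

/-- An invertible module on the limit comes from a stage. -/
theorem exists_invertible_stage {I : Type u} [SmallCategory I] [IsCofiltered I] {W : Scheme.{u}} (B : Sys I W)
    [CompactSpace W] [QuasiSeparatedSpace W] {M : B.c.pt.Modules} (hM : PicF.IsInvertible M) :
    ∃ (i : I) (Mi : (B.D.obj i).Modules), PicF.IsInvertible Mi ∧ Nonempty (pb (B.c.π.app i) Mi ≅ M) := by
  obtain ⟨i₀⟩ : Nonempty I := IsCofiltered.nonempty
  haveI : ∀ (i j : I) (f : i ⟶ j), IsAffineHom (B.D.map f) := fun i j f => B.affine_map f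
  haveI : ∀ i, CompactSpace (B.D.obj i) := fun i => B.compactSpace_obj i
  haveI : ∀ i, QuasiSeparatedSpace (B.D.obj i) := fun i => B.quasiSeparatedSpace_obj i
  obtain ⟨hMq, hMfp, -⟩ := CohCmpLib.rank_one_hyps (𝟙 B.c.pt) ((CohCmpLib.invertible_iff_rank_one M).1 hM)
  haveI := hMq
  obtain ⟨φ, F, hFq, hFfp, ⟨eF⟩⟩ := LimHomLib.exists_descend B.hc (i₀ := i₀) M hMfp
  haveI := hFq
  have hg : LimLocFreeLib.Good (fun r => r = 1) F (B.c.π.app φ.left) :=
    (LimLocFreeLib.isFinLocFreeOfRank_iff F 1 _).1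
      ((CohCmpLib.invertible_iff_rank_one _).1 (HilbPolyLib.isInvertible_of_iso eF.symm hM))
  obtain ⟨j, ψ, hj⟩ := (LimLocFreeLib.good_iff B.D B.c B.hc φ.left (fun r => r = 1) F hFfp).1 hg
  exact ⟨j, pb (B.D.map ψ) F,
    (CohCmpLib.invertible_iff_rank_one _).2 ((LimLocFreeLib.isFinLocFreeOfRank_iff F 1 _).2 hj),
    ⟨(Scheme.Modules.pullbackComp _ _).app F ≪≫ (Scheme.Modules.pullbackCongr (B.c.w ψ)).app F ≪≫ eF⟩⟩

variable {X S : Scheme.{u}} {f : X ⟶ S} {P : Over S} {φ : ∀ T : Over S, PicF.Cl (PicF.XT f T) → (T ⟶ P)}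

/-- A point with a class factors through a stage of any system. -/
theorem exists_factor [QuasiCompact f] [QuasiSeparated f] (hP : PicRel.IsRelPic f P φ)
    {V : S.Opens} (hV : IsAffineOpen V) {I : Type u} [SmallCategory I] [IsCofiltered I] (Y : Sys I V.toScheme)
    (c : PicF.Cl (PicF.XT f (Over.mk (Y.s ≫ V.ι)))) (hc : PicF.IsInvertibleCl c) :
    ∃ (i : I) (v : Y.D.obj i ⟶ P.left), v ≫ P.hom = Y.t i ≫ V.ι ∧
      Y.c.π.app i ≫ v = (φ (Over.mk (Y.s ≫ V.ι)) c).left := by
  haveI : IsAffine V.toScheme := hV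
  let B := RichLib.LimBC.pb Y (pullback.snd f V.ι)
  haveI : CompactSpace ↥(pullback f V.ι) := QuasiCompact.compactSpace_of_compactSpace (pullback.snd f V.ι)
  haveI : QuasiSeparatedSpace ↥(pullback f V.ι) := quasiSeparatedSpace_of_quasiSeparated (pullback.snd f V.ι)
  let T : Over S := Over.mk (Y.s ≫ V.ι)
  let e : B.c.pt ≅ PicF.XT f T := pullbackLeftPullbackSndIso f V.ι Y.s
  obtain ⟨M, rfl, hM⟩ := hc
  obtain ⟨i, Mi, hMi, ⟨ei⟩⟩ := exists_invertible_stage B (AmpleDevLib.isInvertible_pb e.hom hM)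
  let Ti : Over S := Over.mk (Y.t i ≫ V.ι)
  let eTi : B.D.obj i ≅ PicF.XT f Ti := pullbackLeftPullbackSndIso f V.ι (Y.t i)
  let g : T ⟶ Ti := Over.homMk (Y.c.π.app i) (Y.hs_assoc i _)
  have hnat : PicF.XTmap f g ≫ eTi.inv = e.inv ≫ B.c.π.app i := by
    rw [Iso.eq_inv_comp, ← Category.assoc, Iso.comp_inv_eq]
    apply pullback.hom_ext
    · rw [Category.assoc, Category.assoc, PicRelBCLib.XTmap_fst]
      refine (pullbackLeftPullbackSndIso_hom_fst f V.ι Y.s).trans ?_
      refine Eq.trans ?_ (congrArg (B.c.π.app i ≫ ·) (pullbackLeftPullbackSndIso_hom_fst f V.ι (Y.t i))).symm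
      exact (pbπ_fst_assoc Y (pullback.snd f V.ι) i _).symm
    · rw [Category.assoc, Category.assoc, PicRelBCLib.XTmap_snd]
      refine (pullbackLeftPullbackSndIso_hom_snd_assoc f V.ι Y.s _).trans ?_
      refine Eq.trans ?_ (congrArg (B.c.π.app i ≫ ·) (pullbackLeftPullbackSndIso_hom_snd f V.ι (Y.t i))).symm
      exact (pbπ_snd Y (pullback.snd f V.ι) i).symm
  have hd : PicF.IsInvertibleCl (PicF.cl (pb eTi.inv Mi)) :=
    ⟨_, rfl, AmpleDevLib.isInvertible_pb _ hMi⟩
  refine ⟨i, (φ Ti (PicF.cl (pb eTi.inv Mi))).left, Over.w _, ?_⟩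
  have h1 := hP.natural Ti T g _ hd
  have h2 : PicF.pullCl (PicF.XTmap f g) (PicF.cl (pb eTi.inv Mi)) = PicF.cl M :=
    Quot.sound ⟨(Scheme.Modules.pullbackComp _ _).app Mi ≪≫ (Scheme.Modules.pullbackCongr hnat).app Mi ≪≫
      ((Scheme.Modules.pullbackComp _ _).app Mi).symm ≪≫ (Scheme.Modules.pullback e.inv).mapIso ei ≪≫
      (Scheme.Modules.pullbackComp _ _).app M ≪≫ (Scheme.Modules.pullbackCongr e.inv_hom_id).app M ≪≫
      (Scheme.Modules.pullbackId _).app M⟩
  rw [h2] at h1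
  exact (congrArg CommaMorphism.left h1).symm

/-- A scheme representing the relative Picard functor is locally of finite type. -/
theorem locallyOfFiniteType [IsLocallyNoetherian S] [QuasiCompact f] [QuasiSeparated f]
    (hP : PicRel.IsRelPic f P φ) : LocallyOfFiniteType P.hom := by
  obtain ⟨ι, U, hU, hc⟩ := hP.locallySurjective P (𝟙 P)
  have hi : ∀ i, LocallyOfFiniteType ((U i).hom ≫ P.hom) := fun i => by
    haveI : Etale (U i).hom := (U i).prop
    refine (HasRingHomProperty.iff_appLE (P := @LocallyOfFiniteType)).2 fun ⟨V, hV'⟩ ⟨W, hW⟩ hWV => ?_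
    let h := (U i).hom ≫ P.hom
    let R := Γ(S, V)
    let L := Γ((U i).left, W)
    let ψ : R ⟶ L := h.appLE V W hWV
    let Y := ConsLib.homSys ψ hV'.isoSpec
    have hs : Y.s ≫ V.ι = hW.fromSpec ≫ h := by
      show (Spec.map ψ ≫ hV'.isoSpec.inv) ≫ V.ι = _
      rw [Category.assoc, hV'.isoSpec_inv_ι]
      exact (IsAffineOpen.SpecMap_appLE_fromSpec h hV' hW hWV)
    obtain ⟨c, hci, hcφ⟩ := hc i
    let T : Over S := Over.mk (Y.s ≫ V.ι)
    let g : T ⟶ PicRel.ovr P (U i) := Over.homMk hW.fromSpec hs.symm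
    obtain ⟨j, v, hv, hπv⟩ := exists_factor hP hV' Y _ (PicRelBCLib.isInvertibleCl_pullCl (PicF.XTmap f g) hci)
    have hnat : (φ T (PicF.pullCl (PicF.XTmap f g) c)).left = hW.fromSpec ≫ (U i).hom := by
      rw [hP.natural _ _ g c hci, hcφ, Category.comp_id]
      rfl
    rw [hnat] at hπv
    haveI : LocallyOfFiniteType (Y.c.π.app j ≫ v) := by
      rw [hπv]
      haveI : IsOpenImmersion hW.fromSpec := hW.isOpenImmersion_fromSpec
      exact MorphismProperty.comp_mem _ _ _ (inferInstanceAs (LocallyOfFiniteType hW.fromSpec)) inferInstance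
    haveI : LocallyOfFiniteType (Y.c.π.app j) := locallyOfFiniteType_of_comp _ v
    haveI : LocallyOfFiniteType (Y.t j) := ConsLib.homSys_lft ψ hV'.isoSpec j
    have h3 : LocallyOfFiniteType Y.s := by rw [← Y.hs j]; infer_instance
    have h4 : LocallyOfFiniteType (Spec.map ψ) := by
      have e : Spec.map ψ = Y.s ≫ hV'.isoSpec.hom := by
        show Spec.map ψ = (Spec.map ψ ≫ hV'.isoSpec.inv) ≫ hV'.isoSpec.hom
        rw [Category.assoc, Iso.inv_hom_id, Category.comp_id]
      rw [e]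
      exact MorphismProperty.comp_mem _ _ _ h3 inferInstance
    exact (HasRingHomProperty.Spec_iff (P := @LocallyOfFiniteType)).1 h4
  let p := Sigma.desc fun i => (U i).hom
  haveI : Flat p := IsZariskiLocalAtSource.sigmaDesc (P := @Flat) fun i => by
    haveI : Etale (U i).hom := (U i).prop
    infer_instance
  haveI : LocallyOfFinitePresentation p :=
    IsZariskiLocalAtSource.sigmaDesc (P := @LocallyOfFinitePresentation) fun i => by
      haveI : Etale (U i).hom := (U i).prop
      infer_instance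
  haveI : Surjective p := ⟨fun x => by
    obtain ⟨i, y, hy⟩ := hU x
    refine ⟨(Sigma.ι (fun i => (U i).left) i) y, ?_⟩
    rw [← Scheme.Hom.comp_apply, Sigma.ι_desc]
    exact hy⟩
  haveI : LocallyOfFiniteType (p ≫ P.hom) := by
    have e : p ≫ P.hom = Sigma.desc fun i => (U i).hom ≫ P.hom := Sigma.hom_ext _ _ fun i => by simp [p]
    rw [e]
    exact IsZariskiLocalAtSource.sigmaDesc (P := @LocallyOfFiniteType) hi
  exact Groth.Agent.S5938.result p P.hom

end PicRepLib

end
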