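import Groth.Agent.PicRepLib.NthUnr
import Groth.Agent.DescAppLib.RigApps
import Groth.Agent.CohCmpLib.TrivFibre
import Groth.Agent.H0Lib.Apply

/-!
# Classes of morphisms to the Picard scheme on a geometrically connected piece of the source
-/

set_option autoImplicit false
set_option linter.style.haveILetI false
set_option backward.isDefEq.respectTransparency false
set_option backward.isDefEq.respectTransparency.types false
set_option maxHeartbeats 1000000
universe u

open CategoryTheory CategoryTheory.Limits AlgebraicGeometry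
open PicRel (IsRelPic)
open CubeConsLib (pull cl pull_comp pull_cl cl_eq_one_iff IsoCls)
open KFlatLib (pb)

noncomputable section

namespace PicRepLib

theorem ofArrows_mem_fppf {T : Scheme.{u}} {ι : Type u} (U : ι → T.Etale) (hU : EtCoh.Covers U) :
    Presieve.ofArrows (fun i => (U i).left) (fun i => (U i).hom) ∈ Scheme.fppfPrecoverage T := by
  refine (Scheme.ofArrows_mem_precoverage_iff _).2 ⟨fun t => ?_, fun i => ?_⟩
  · obtain ⟨i, y, hy⟩ := hU t
    exact ⟨i, y, hy⟩
  · haveI : Etale (U i).hom := (U i).prop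
    exact ⟨inferInstance, inferInstance⟩

/-- The inverse class commutes with pullback. -/
theorem pull_dual {Y Z : Scheme.{u}} (g : Z ⟶ Y) {M : Y.Modules} (hM : PicF.IsInvertible M) :
    pull g (cl (MiscFlat6.dual M)) = cl (MiscFlat6.dual (pb g M)) := by
  have h1 : cl (MiscFlat6.dual M) * cl M = 1 := by
    rw [mul_comm]; exact cl_eq_one_iff.2 (MiscFlat6.nonempty_dualIso hM)
  have h2 : cl (pb g M) * cl (MiscFlat6.dual (pb g M)) = 1 :=
    cl_eq_one_iff.2 (MiscFlat6.nonempty_dualIso (AmpleDevLib.isInvertible_pb g hM))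
  have h3 : pull g (cl (MiscFlat6.dual M)) * cl (pb g M) = 1 := by
    rw [← pull_cl, ← map_mul, h1, map_one]
  exact left_inv_eq_right_inv h3 h2

/-- Inverse classes only depend on the class. -/
theorem cl_dual_congr {Y : Scheme.{u}} {A B : Y.Modules} (hA : PicF.IsInvertible A) (hB : PicF.IsInvertible B)
    (h : cl A = cl B) : cl (MiscFlat6.dual A) = cl (MiscFlat6.dual B) := by
  have a1 : cl (MiscFlat6.dual A) * cl A = 1 := by
    rw [mul_comm]; exact cl_eq_one_iff.2 (MiscFlat6.nonempty_dualIso hA)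
  have a2 : cl A * cl (MiscFlat6.dual B) = 1 := by
    rw [h]; exact cl_eq_one_iff.2 (MiscFlat6.nonempty_dualIso hB)
  exact left_inv_eq_right_inv a1 a2

variable {X X' S : Scheme.{u}} (f : X ⟶ S) (ι : X' ⟶ X)

/-- The map of the source on `T`-points. -/
abbrev srcMap (T : Over S) : PicF.XT (ι ≫ f) T ⟶ PicF.XT f T :=
  pullback.map (ι ≫ f) T.hom f T.hom ι (𝟙 _) (𝟙 S) (Category.comp_id _) (by simp)

theorem srcMap_natural {T T' : Over S} (g : T' ⟶ T) :
    PicF.XTmap (ι ≫ f) g ≫ srcMap f ι T = srcMap f ι T' ≫ PicF.XTmap f g := by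
  apply pullback.hom_ext
  · rw [Category.assoc, Category.assoc, pullback.lift_fst, PicRelBCLib.XTmap_fst,
      ← Category.assoc, PicRelBCLib.XTmap_fst, pullback.lift_fst]
  · rw [Category.assoc, Category.assoc, pullback.lift_snd, PicRelBCLib.XTmap_snd,
      ← Category.assoc, Category.comp_id, PicRelBCLib.XTmap_snd, ← Category.assoc, pullback.lift_snd,
      Category.comp_id]

variable (σ : S ⟶ X') (hσ : σ ≫ ι ≫ f = 𝟙 S)

/-- The restriction to the piece, rigidified along the section. -/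
abbrev rigMod (T : Over S) (L : (PicF.XT f T).Modules) : (PicF.XT (ι ≫ f) T).Modules :=
  CohB1.tensorMod (pb (srcMap f ι T) L)
    (pb (PicF.XTproj (ι ≫ f) T) (MiscFlat6.dual (pb (PicF.secT (ι ≫ f) σ hσ T) (pb (srcMap f ι T) L))))

theorem isInvertible_rigMod {T : Over S} {L : (PicF.XT f T).Modules} (hL : PicF.IsInvertible L) :
    PicF.IsInvertible (rigMod f ι σ hσ T L) :=
  HilbPolyLib.isInvertible_tensor (AmpleDevLib.isInvertible_pb _ hL) (AmpleDevLib.isInvertible_pb _
    (MiscFlat6.dual_isInvertible (AmpleDevLib.isInvertible_pb _ (AmpleDevLib.isInvertible_pb _ hL))))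

theorem sec_rigMod {T : Over S} {L : (PicF.XT f T).Modules} (hL : PicF.IsInvertible L) :
    pull (PicF.secT (ι ≫ f) σ hσ T) (cl (rigMod f ι σ hσ T L)) = 1 := by
  rw [CubeConsLib.cl_tensor, map_mul, ← pull_cl (PicF.XTproj (ι ≫ f) T), pull_comp, DescAppLib.secT_proj,
    DescAppLib.pull_id]
  exact cl_eq_one_iff.2 (MiscFlat6.nonempty_dualIso (AmpleDevLib.isInvertible_pb _ (AmpleDevLib.isInvertible_pb _ hL)))

theorem rigMod_natural {T T' : Over S} (g : T' ⟶ T) {L : (PicF.XT f T).Modules} (hL : PicF.IsInvertible L) :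
    pull (PicF.XTmap (ι ≫ f) g) (cl (rigMod f ι σ hσ T L)) = cl (rigMod f ι σ hσ T' (pb (PicF.XTmap f g) L)) := by
  have h1 : PicF.IsInvertible (pb (srcMap f ι T) L) := AmpleDevLib.isInvertible_pb _ hL
  have h2 : PicF.IsInvertible (pb (srcMap f ι T') (pb (PicF.XTmap f g) L)) :=
    AmpleDevLib.isInvertible_pb _ (AmpleDevLib.isInvertible_pb _ hL)
  have hsrc : pull (PicF.XTmap (ι ≫ f) g) (cl (pb (srcMap f ι T) L)) =
      cl (pb (srcMap f ι T') (pb (PicF.XTmap f g) L)) := by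
    rw [← pull_cl, pull_comp, srcMap_natural, ← pull_comp, pull_cl, pull_cl]
  rw [CubeConsLib.cl_tensor, map_mul, hsrc, CubeConsLib.cl_tensor]
  congr 1
  rw [← pull_cl, ← pull_cl, pull_comp, DescAppLib.XTmap_proj, ← pull_comp, pull_dual _ (AmpleDevLib.isInvertible_pb _ h1)]
  refine congrArg (pull _) (cl_dual_congr (AmpleDevLib.isInvertible_pb _ (AmpleDevLib.isInvertible_pb _ h1))
    (AmpleDevLib.isInvertible_pb _ h2) ?_)
  rw [← pull_cl, ← pull_cl, pull_comp, ← DescAppLib.secT_natural, ← pull_comp, hsrc]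
  rfl

/-- Over an algebraically closed field, rigidifying does nothing. -/
theorem rigMod_pt {K : Type u} [Field K] {X X' : Scheme.{u}} (f : X ⟶ Spec (CommRingCat.of K)) (ι : X' ⟶ X)
    (σ : Spec (CommRingCat.of K) ⟶ X') (hσ : σ ≫ ι ≫ f = 𝟙 _) {L : (PicF.XT f (Over.mk (𝟙 _))).Modules}
    (hL : PicF.IsInvertible L) :
    cl (rigMod f ι σ hσ (Over.mk (𝟙 _)) L) = pull (srcMap f ι (Over.mk (𝟙 _))) (cl L) := by
  haveI : Subsingleton ↥(Over.mk (𝟙 (Spec (CommRingCat.of K)))).left := inferInstanceAs (Subsingleton (PrimeSpectrum K))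
  haveI : Nonempty ↥(Over.mk (𝟙 (Spec (CommRingCat.of K)))).left := inferInstanceAs (Nonempty (PrimeSpectrum K))
  have h1 : cl (MiscFlat6.dual (pb (PicF.secT (ι ≫ f) σ hσ (Over.mk (𝟙 _))) (pb (srcMap f ι (Over.mk (𝟙 _))) L))) = 1 :=
    cl_eq_one_iff.2 (CohCmpLib.nonempty_iso_structureModule_of_point ((CohCmpLib.invertible_iff_rank_one _).1
      (MiscFlat6.dual_isInvertible (AmpleDevLib.isInvertible_pb _ (AmpleDevLib.isInvertible_pb _ hL)))))
  rw [CubeConsLib.cl_tensor, ← pull_cl (PicF.XTproj (ι ≫ f) (Over.mk (𝟙 _))), h1, map_one, mul_one, pull_cl]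

variable {P : Over S} {φ : ∀ T : Over S, PicF.Cl (PicF.XT f T) → (T ⟶ P)}

/-- **A morphism to the Picard scheme has a class on a piece with a section and universally trivial functions.** -/
theorem exists_class_piece (hP : IsRelPic f P φ)
    (ha : ∀ (T : Over S) (U : T.left.Opens), Function.Bijective ((PicF.XTproj (ι ≫ f) T).app U))
    {T : Over S} (h : T ⟶ P) :
    ∃ N : (PicF.XT (ι ≫ f) T).Modules, PicF.IsInvertible N ∧
      ∀ (T' : Over S), HasSect T' → ∀ (t : T' ⟶ T) (L : (PicF.XT f T').Modules), Cls φ (t ≫ h) L →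
        pull (PicF.XTmap (ι ≫ f) t) (cl N) = cl (rigMod f ι σ hσ T' L) := by
  obtain ⟨κ, U, hU, hc⟩ := hP.locallySurjective T h
  choose c hc hφ using hc
  choose L hcL hL using hc
  have hLc : ∀ k, Cls φ (PicRel.ovrHom T (U k) ≫ h) (L k) := fun k => ⟨hL k, (congrArg _ (hcL k)).trans (hφ k)⟩
  let Z : κ → Scheme.{u} := fun k => (U k).left
  let g : ∀ k, Z k ⟶ T.left := fun k => (U k).hom
  have hmem := Scheme.fppfPrecoverage_le_fpqcPrecoverage _ (ofArrows_mem_fppf U hU)
  have hbij : ∀ (W : Scheme.{u}) (t : W ⟶ T.left), Flat t →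
      Function.Bijective (pullback.snd (PicF.XTproj (ι ≫ f) T) t).appTop :=
    fun W t _ => DescAppLib.bij_XT (ι ≫ f) ha T W t
  -- rigidified classes of the same morphism agree
  have agree : ∀ (W : Over S) (a : W ⟶ P) (M M' : (PicF.XT f W).Modules), Cls φ a M → Cls φ a M' →
      cl (rigMod f ι σ hσ W M) = cl (rigMod f ι σ hσ W M') := by
    intro W a M M' hM hM'
    obtain ⟨μ, V, hV, hiso⟩ := hP.locallyInjective W _ _ ⟨M, rfl, hM.1⟩ ⟨M', rfl, hM'.1⟩ (hM.2.trans hM'.2.symm)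
    refine DescAppLib.unique_family (PicF.XTproj (ι ≫ f) W)
      (DescAppLib.xtFam (ι ≫ f) σ hσ W (fun m => (V m).left) (fun m => (V m).hom))
      (Scheme.fppfPrecoverage_le_fpqcPrecoverage _ (ofArrows_mem_fppf V hV))
      (fun W' t _ => DescAppLib.bij_XT (ι ≫ f) ha W W' t)
      (isInvertible_rigMod f ι σ hσ hM.1) (isInvertible_rigMod f ι σ hσ hM'.1)
      (sec_rigMod f ι σ hσ hM.1) (sec_rigMod f ι σ hσ hM'.1) fun m => ?_
    show pull (PicF.XTmap (ι ≫ f) (PicRel.ovrHom W (V m))) _ = pull (PicF.XTmap (ι ≫ f) (PicRel.ovrHom W (V m))) _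
    rw [rigMod_natural f ι σ hσ _ hM.1, rigMod_natural f ι σ hσ _ hM'.1]
    have e0 : cl (pb (PicF.XTmap f (PicRel.ovrHom W (V m))) M) = cl (pb (PicF.XTmap f (PicRel.ovrHom W (V m))) M') :=
      CubeConsLib.cl_eq_iff.2 (cl_eq_iff.1 (hiso m))
    have e1 : cl (pb (srcMap f ι _) (pb (PicF.XTmap f (PicRel.ovrHom W (V m))) M)) =
        cl (pb (srcMap f ι _) (pb (PicF.XTmap f (PicRel.ovrHom W (V m))) M')) :=
      congrArg (pull (srcMap f ι (PicRel.ovr W (V m)))) e0
    rw [CubeConsLib.cl_tensor, CubeConsLib.cl_tensor, e1]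
    congr 1
    rw [← pull_cl, ← pull_cl]
    refine congrArg (pull _) (cl_dual_congr
      (AmpleDevLib.isInvertible_pb _ (AmpleDevLib.isInvertible_pb _ (AmpleDevLib.isInvertible_pb _ hM.1)))
      (AmpleDevLib.isInvertible_pb _ (AmpleDevLib.isInvertible_pb _ (AmpleDevLib.isInvertible_pb _ hM'.1))) ?_)
    rw [← pull_cl, ← pull_cl (PicF.secT (ι ≫ f) σ hσ _), e1]
  obtain ⟨N, hN, -, hN2⟩ := DescAppLib.exists_descend_cls (PicF.XTproj (ι ≫ f) T)
    (DescAppLib.xtFam (ι ≫ f) σ hσ T Z g) hmem hbij (fun k => rigMod f ι σ hσ _ (L k))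
    (fun k => isInvertible_rigMod f ι σ hσ (hL k)) (fun k => sec_rigMod f ι σ hσ (hL k)) (fun k l => by
      obtain ⟨j, hj1, hj2⟩ := DescAppLib.exists_ovr_overlap (ι ≫ f) σ hσ T Z g k l
      let W := AbDual.ovr (AbDual.ovr T (g k)) (pullback.fst (g k) (g l))
      let a : W ⟶ AbDual.ovr T (g k) := AbDual.ovrHom (AbDual.ovr T (g k)) (pullback.fst (g k) (g l))
      let b : W ⟶ AbDual.ovr T (g l) := Over.homMk (pullback.snd (g k) (g l)) (pullback.condition_assoc T.hom).symm
      have hab : a ≫ AbDual.ovrHom T (g k) = b ≫ AbDual.ovrHom T (g l) :=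
        Over.OverMorphism.ext pullback.condition
      have hA : Cls φ (a ≫ PicRel.ovrHom T (U k) ≫ h) (pb (PicF.XTmap f a) (L k)) := (hLc k).pull hP a
      have hB : Cls φ (b ≫ PicRel.ovrHom T (U l) ≫ h) (pb (PicF.XTmap f b) (L l)) := (hLc l).pull hP b
      have hab' : b ≫ PicRel.ovrHom T (U l) ≫ h = a ≫ PicRel.ovrHom T (U k) ≫ h :=
        (Category.assoc _ _ _).symm.trans ((congrArg (· ≫ h) hab.symm).trans (Category.assoc _ _ _))
      rw [hab'] at hB
      have he : pull (PicF.XTmap (ι ≫ f) a) (cl (rigMod f ι σ hσ _ (L k))) =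
          pull (PicF.XTmap (ι ≫ f) b) (cl (rigMod f ι σ hσ _ (L l))) :=
        (rigMod_natural f ι σ hσ a (hL k)).trans ((agree W _ _ _ hA hB).trans (rigMod_natural f ι σ hσ b (hL l)).symm)
      rw [← hj1, ← hj2]
      exact (pull_comp j _ _).symm.trans ((congrArg (pull j) he).trans (pull_comp j _ _)))
  refine ⟨N, hN, fun T' hT t M hM => ?_⟩
  let V : κ → T'.left.Etale := fun k => MorphismProperty.Over.mk _ (pullback.fst t.left (U k).hom)
    (MorphismProperty.pullback_fst _ _ (U k).prop)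
  obtain ⟨k, s, hs⟩ := hT V (fun x => by
    obtain ⟨k, y, hy⟩ := hU (t.left x)
    obtain ⟨z, hz, -⟩ := Scheme.Pullback.exists_preimage_pullback (f := t.left) (g := (U k).hom) x y hy.symm
    exact ⟨k, z, hz⟩)
  let q : PicRel.ovr T' (V k) ⟶ PicRel.ovr T (U k) := Over.homMk (pullback.snd t.left (U k).hom) (by
    show pullback.snd _ _ ≫ (U k).hom ≫ T.hom = pullback.fst _ _ ≫ T'.hom
    rw [← pullback.condition_assoc, Over.w t])
  have hq : (s ≫ q) ≫ PicRel.ovrHom T (U k) = t := by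
    have h1 : q ≫ PicRel.ovrHom T (U k) = PicRel.ovrHom T' (V k) ≫ t :=
      Over.OverMorphism.ext pullback.condition.symm
    rw [Category.assoc, h1, reassoc_of% hs]
  have hk : Cls φ (t ≫ h) (pb (PicF.XTmap f (s ≫ q)) (L k)) := by
    have := (hLc k).pull hP (s ≫ q)
    rwa [← Category.assoc, hq] at this
  rw [agree T' _ _ _ hM hk, ← rigMod_natural f ι σ hσ (s ≫ q) (hL k)]
  rw [show cl (rigMod f ι σ hσ (PicRel.ovr T (U k)) (L k)) =
    pull (PicF.XTmap (ι ≫ f) (PicRel.ovrHom T (U k))) (cl N) from (hN2 k).symm, pull_comp, ← PicGrp.XTmap_comp, hq]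

end PicRepLib
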