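import Groth.Agent.PicRepLib.Extend
import Groth.Agent.ProperConnLib.Main
import Groth.Agent.DvrProperLib.Completion
import Groth.Agent.CplDvrExtLib.Basic
import Groth.Agent.AlgSpLib.ValFinSep
import Groth.Prelude.Def_PicRel2

/-!
# Charts of étale coverings of discrete valuation rings
-/

set_option autoImplicit false
set_option linter.style.haveILetI false
set_option maxHeartbeats 1000000
universe u

open CategoryTheory CategoryTheory.Limits AlgebraicGeometry
open PicRel (ovr ovrHom)
open IsLocalRing (closedPoint)

noncomputable section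

namespace PicRepLib

/-- The inclusion of the generic point. -/
abbrev genMap (A : Type u) (K : Type u) [CommRing A] [Field K] [Algebra A K] :
    Spec (CommRingCat.of K) ⟶ Spec (CommRingCat.of A) :=
  Spec.map (CommRingCat.ofHom (algebraMap A K))

theorem isOpenImmersion_genMap (A : Type u) (K : Type u) [CommRing A] [IsDomain A] [IsDiscreteValuationRing A]
    [Field K] [Algebra A K] [IsFractionRing A K] : IsOpenImmersion (genMap A K) := by
  let e : FractionRing A ≃ₐ[A] K := FractionRing.algEquiv A K
  have h : genMap A K = Spec.map (CommRingCat.ofHom e.toRingHom) ≫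
      Spec.map (CommRingCat.ofHom (algebraMap A (FractionRing A))) := by
    show Spec.map _ = _
    rw [← Spec.map_comp]
    refine congrArg Spec.map ?_
    ext r
    exact (e.commutes r).symm
  haveI : IsIso (Spec.map (CommRingCat.ofHom e.toRingHom)) := by
    haveI : IsIso (CommRingCat.ofHom e.toRingHom) := (RingEquiv.toCommRingCatIso e.toRingEquiv).isIso_hom
    infer_instance
  rw [h]
  infer_instance

theorem range_genMap (A : Type u) (K : Type u) [CommRing A] [IsDomain A] [Field K] [Algebra A K]
    [IsFractionRing A K] : Set.range (genMap A K) = {genericPoint (Spec (CommRingCat.of A))} := by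
  rw [genericPoint_eq_bot_of_affine]
  refine Set.eq_singleton_iff_unique_mem.2 ⟨⟨IsLocalRing.closedPoint K, ?_⟩, ?_⟩
  all_goals
    first
    | (rintro _ ⟨x, rfl⟩)
    | skip
  · refine PrimeSpectrum.ext ?_
    show Ideal.comap (algebraMap A K) (IsLocalRing.maximalIdeal K) = ⊥
    rw [IsLocalRing.maximalIdeal_eq_bot, ← RingHom.ker_eq_comap_bot]
    exact (RingHom.injective_iff_ker_eq_bot _).mp (IsFractionRing.injective A K)
  · refine PrimeSpectrum.ext ?_
    show Ideal.comap (algebraMap A K) (PrimeSpectrum.asIdeal (R := K) x) = ⊥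
    rw [(Ideal.eq_bot_or_top (PrimeSpectrum.asIdeal (R := K) x)).resolve_right (PrimeSpectrum.isPrime x).ne_top,
      ← RingHom.ker_eq_comap_bot]
    exact (RingHom.injective_iff_ker_eq_bot _).mp (IsFractionRing.injective A K)

/-- The generic point of an extension lies over the generic point. -/
theorem exists_genMap_factor {A B : Type u} [CommRing A] [CommRing B] [IsDomain A] (K L : Type u)
    [Field K] [Algebra A K] [IsFractionRing A K] [Field L] [Algebra B L] (χ : A →+* B)
    (hinj : Function.Injective ((algebraMap B L).comp χ)) :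
    ∃ k : Spec (CommRingCat.of L) ⟶ Spec (CommRingCat.of K),
      genMap B L ≫ Spec.map (CommRingCat.ofHom χ) = k ≫ genMap A K := by
  refine ⟨Spec.map (CommRingCat.ofHom (IsFractionRing.lift (A := A) (K := K) hinj)), ?_⟩
  rw [← Spec.map_comp, ← Spec.map_comp]
  congr 1
  ext r
  exact (IsFractionRing.lift_algebraMap hinj r).symm

/-- A homomorphism of local rings respecting the closed points is local. -/
theorem isLocalHom_of_closedPoint {A B : Type u} [CommRing A] [IsLocalRing A] [CommRing B] [IsLocalRing B]
    (χ : A →+* B) (h : (Spec.map (CommRingCat.ofHom χ)) (closedPoint B) = closedPoint A) : IsLocalHom χ := by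
  refine ⟨fun a ha => ?_⟩
  by_contra hna
  have h2 : a ∈ ((Spec.map (CommRingCat.ofHom χ)) (closedPoint B)).asIdeal := by rw [h]; exact hna
  exact h2 ha

/-- Points of a scheme with values in a local domain are detected by dominating extensions. -/
theorem eq_of_dominating {P : Scheme.{u}} {A B : Type u} [CommRing A] [IsLocalRing A] [CommRing B] [IsLocalRing B]
    (χ : A →+* B) [IsLocalHom χ] (hinj : Function.Injective χ) {l₁ l₂ : Spec (CommRingCat.of A) ⟶ P}
    (h : Spec.map (CommRingCat.ofHom χ) ≫ l₁ = Spec.map (CommRingCat.ofHom χ) ≫ l₂) : l₁ = l₂ := by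
  obtain ⟨U, hU, hxU, -⟩ := exists_isAffineOpen_mem_and_subset (x := l₁ (closedPoint A)) (U := ⊤) trivial
  have hc : l₂ (closedPoint A) = l₁ (closedPoint A) := by
    have h1 := congrArg (fun m : Spec (CommRingCat.of B) ⟶ P => m (closedPoint B)) h
    dsimp only at h1
    rw [Scheme.Hom.comp_apply, Scheme.Hom.comp_apply] at h1
    have h2 : (Spec.map (CommRingCat.ofHom χ)) (closedPoint B) = closedPoint A :=
      IsLocalRing.comap_closedPoint χ
    rw [h2] at h1
    exact h1.symm
  have hr : ∀ l : Spec (CommRingCat.of A) ⟶ P, l (closedPoint A) ∈ U → Set.range l ⊆ Set.range U.ι := by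
    intro l hl
    rw [Scheme.Opens.range_ι]
    rintro _ ⟨x, rfl⟩
    exact ((IsLocalRing.specializes_closedPoint (R := A) x).map l.continuous).mem_open U.2 hl
  let m₁ := IsOpenImmersion.lift U.ι l₁ (hr l₁ hxU) ≫ hU.isoSpec.hom
  let m₂ := IsOpenImmersion.lift U.ι l₂ (hr l₂ (by rw [hc]; exact hxU)) ≫ hU.isoSpec.hom
  have e₁ : m₁ ≫ hU.isoSpec.inv ≫ U.ι = l₁ := by
    simp only [m₁, Category.assoc, Iso.hom_inv_id_assoc, IsOpenImmersion.lift_fac]
  have e₂ : m₂ ≫ hU.isoSpec.inv ≫ U.ι = l₂ := by
    simp only [m₂, Category.assoc, Iso.hom_inv_id_assoc, IsOpenImmersion.lift_fac]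
  obtain ⟨p₁, hp₁⟩ := Spec.map_surjective m₁
  obtain ⟨p₂, hp₂⟩ := Spec.map_surjective m₂
  have hm : Spec.map (CommRingCat.ofHom χ) ≫ m₁ = Spec.map (CommRingCat.ofHom χ) ≫ m₂ := by
    exact (cancel_mono (hU.isoSpec.inv ≫ U.ι)).1 ((Category.assoc _ _ _).trans
      ((congrArg _ e₁).trans (h.trans ((congrArg _ e₂).symm.trans (Category.assoc _ _ _).symm))))
  rw [← hp₁, ← hp₂, ← Spec.map_comp, ← Spec.map_comp] at hm
  have hp : p₁ = p₂ := by
    ext r
    exact hinj (RingHom.congr_fun (congrArg CommRingCat.Hom.hom (Spec.map_injective hm)) r)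
  rw [← e₁, ← e₂, ← hp₁, ← hp₂, hp]

variable {S : Scheme.{u}}

/-- An étale covering of a discrete valuation ring is split by a dominating complete one. -/
theorem exists_dvr_chart {A : Type u} [CommRing A] [IsDomain A] [IsDiscreteValuationRing A]
    (b : Spec (CommRingCat.of A) ⟶ S) {ι : Type u} (U : ι → (Over.mk b).left.Etale) (hU : EtCoh.Covers U) :
    ∃ (B : Type u) (_ : CommRing B) (_ : IsDomain B) (_ : IsDiscreteValuationRing B)
      (_ : IsAdicComplete (IsLocalRing.maximalIdeal B) B) (χ : A →+* B),
      IsLocalHom χ ∧ Function.Injective χ ∧ ∃ (i : ι) (s : Spec (CommRingCat.of B) ⟶ (U i).left),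
        s ≫ (U i).hom = Spec.map (CommRingCat.ofHom χ) := by
  obtain ⟨i, w, hw⟩ := hU (closedPoint A)
  haveI : Etale (U i).hom := (U i).prop
  let hom : (U i).left ⟶ Spec (CommRingCat.of A) := (U i).hom
  haveI : Etale hom := (U i).prop
  haveI : IsLocallyNoetherian (U i).left := LocallyOfFiniteType.isLocallyNoetherian hom
  let η : Spec (CommRingCat.of A) := genericPoint (Spec (CommRingCat.of A))
  obtain ⟨w', hsp, hw'⟩ := Flat.generalizingMap hom (genericPoint_specializes (hom w))
  have hηc : η ≠ closedPoint A := fun h => IsDiscreteValuationRing.not_isField A (by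
    rw [IsLocalRing.isField_iff_maximalIdeal_eq]
    have := congrArg PrimeSpectrum.asIdeal (h.symm.trans (genericPoint_eq_bot_of_affine (CommRingCat.of A)))
    exact this)
  have hne : w ≠ w' := fun h => hηc (hw'.symm.trans ((congrArg (fun q => hom q) h.symm).trans hw))
  obtain ⟨V, h, hV, hc, hg⟩ := ProperConnLib.exists_dvr_extension hsp hne ((U i).left.residueField w')
  haveI := hV
  obtain ⟨χ₁, hχ₁⟩ := Spec.map_surjective (R := CommRingCat.of A) (S := CommRingCat.of V) (h ≫ (U i).hom)
  have hl : IsLocalHom χ₁.hom := isLocalHom_of_closedPoint _ (by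
    rw [CommRingCat.ofHom_hom, hχ₁, Scheme.Hom.comp_apply, hc]; exact hw)
  have hinj : Function.Injective χ₁.hom := by
    let z : Spec (CommRingCat.of ((U i).left.residueField w')) := closedPoint _
    have h1 : (Spec.map χ₁) ((Spec.map (CommRingCat.ofHom V.subtype)) z) = η := by
      rw [hχ₁, Scheme.Hom.comp_apply, ← Scheme.Hom.comp_apply (Spec.map (CommRingCat.ofHom V.subtype)) h, hg,
        Scheme.Hom.comp_apply, Scheme.fromSpecResidueField_apply, hw']
    rw [RingHom.injective_iff_ker_eq_bot]
    have h2 := congrArg PrimeSpectrum.asIdeal (h1.trans (genericPoint_eq_bot_of_affine (CommRingCat.of A)))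
    rw [eq_bot_iff]
    intro a ha
    exact h2.le (show V.subtype (χ₁.hom a) ∈ (IsLocalRing.maximalIdeal ((U i).left.residueField w')) by
      rw [RingHom.mem_ker.mp ha, map_zero]; exact Ideal.zero_mem _)
  obtain ⟨B, _, _, _, _, c, hcinj, hcl⟩ := DvrProperLib.exists_completion V
  refine ⟨B, inferInstance, inferInstance, inferInstance, inferInstance, c.comp χ₁.hom,
    RingHom.isLocalHom_comp _ _, hcinj.comp hinj, i, Spec.map (CommRingCat.ofHom c) ≫ h, ?_⟩
  rw [Category.assoc, ← hχ₁, ← Spec.map_comp]
  rfl

/-- An étale covering of the generic point of a complete discrete valuation ring is split by a finite extension. -/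
theorem exists_generic_chart {A : Type u} [CommRing A] [IsDomain A] [IsDiscreteValuationRing A]
    [IsAdicComplete (IsLocalRing.maximalIdeal A) A] {K : Type u} [Field K] [Algebra A K] [IsFractionRing A K]
    (b : Spec (CommRingCat.of K) ⟶ S) {ι : Type u} (U : ι → (Over.mk b).left.Etale) (hU : EtCoh.Covers U) :
    ∃ (B : Type u) (_ : CommRing B) (_ : IsDomain B) (_ : IsDiscreteValuationRing B) (_ : HenselianLocalRing B)
      (L : Type u) (_ : Field L) (_ : Algebra B L) (_ : IsFractionRing B L) (χ : A →+* B),
      IsLocalHom χ ∧ Function.Injective χ ∧ ∃ (i : ι) (s : Spec (CommRingCat.of L) ⟶ (U i).left),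
        s ≫ (U i).hom ≫ genMap A K = genMap B L ≫ Spec.map (CommRingCat.ofHom χ) := by
  obtain ⟨i, w, -⟩ := hU (closedPoint K)
  haveI : Etale (U i).hom := (U i).prop
  let W : Over S := ovr (Over.mk b) (U i)
  let pK : W ⟶ Over.mk b := ovrHom (Over.mk b) (U i)
  haveI : Etale pK.left := (U i).prop
  obtain ⟨ψ, hψ⟩ := Spec.map_surjective (R := CommRingCat.of K) (S := W.left.residueField w)
    (W.left.fromSpecResidueField w ≫ pK.left)
  obtain ⟨hfin, hsep⟩ := AlgSpLib.finite_separable_of_etale pK w ψ hψ
  let L := W.left.residueField w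
  letI : Algebra K L := ψ.hom.toAlgebra
  haveI := hfin
  haveI := hsep
  letI : Algebra A L := ((algebraMap K L).comp (algebraMap A K)).toAlgebra
  haveI : IsScalarTower A K L := IsScalarTower.of_algebraMap_eq' rfl
  let B := integralClosure A L
  haveI : IsIntegralClosure B A L := inferInstance
  haveI : Module.Finite A B := IsIntegralClosure.finite A K L B
  haveI : IsDedekindDomain B := IsIntegralClosure.isDedekindDomain A K L B
  haveI : IsFractionRing B L := integralClosure.isFractionRing_of_finite_extension K L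
  have hinj : Function.Injective (algebraMap A B) := fun a a' h => by
    have h1 : algebraMap A L a = algebraMap A L a' := congrArg Subtype.val h
    exact IsFractionRing.injective A K ((algebraMap K L).injective h1)
  haveI : Module.IsTorsionFree A B := by
    haveI : FaithfulSMul A B := (faithfulSMul_iff_algebraMap_injective A B).2 hinj
    infer_instance
  haveI := Groth.Agent.CplDvrExtLib.isLocalRing A B
  haveI hd := Groth.Agent.CplDvrExtLib.isDiscreteValuationRing A B
  haveI := Groth.Agent.CplDvrExtLib.henselian A B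
  refine ⟨B, inferInstance, inferInstance, hd, inferInstance, L, inferInstance, inferInstance, inferInstance,
    algebraMap A B, ?_, hinj, i, W.left.fromSpecResidueField w, ?_⟩
  · haveI : Algebra.IsIntegral A B := Algebra.IsIntegral.of_finite A B
    exact isLocalHom_of_closedPoint _ (PrimeSpectrum.ext (Groth.Agent.CplDvrExtLib.liesOver A B (IsLocalRing.maximalIdeal B)))
  · rw [← Category.assoc, show W.left.fromSpecResidueField w ≫ (U i).hom = Spec.map ψ from hψ.symm,
      ← Spec.map_comp, ← Spec.map_comp]
    rfl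

end PicRepLib
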