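import Groth.Agent.PicRepLib.DvrSep

/-!
# Extending points over discrete valuation rings after finite extensions
-/

set_option autoImplicit false
set_option linter.style.haveILetI false
set_option maxHeartbeats 1000000
universe u

open CategoryTheory CategoryTheory.Limits AlgebraicGeometry
open PicRel (ovr ovrHom IsRelPic)
open KFlatLib (pb)

noncomputable section

namespace PicRepLib

variable {X S : Scheme.{u}}

/-- Existence part of the valuative criterion for discrete valuation rings, up to dominating extensions. -/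
def DvrExistenceExt (f : X ⟶ S) : Prop :=
  ∀ (A : Type u) [CommRing A] [IsDomain A] [IsDiscreteValuationRing A] (K : Type u) [Field K] [Algebra A K]
    [IsFractionRing A K] (x : Spec (CommRingCat.of K) ⟶ X) (y : Spec (CommRingCat.of A) ⟶ S),
    x ≫ f = genMap A K ≫ y →
      ∃ (A' : Type u) (_ : CommRing A') (_ : IsDomain A') (_ : IsDiscreteValuationRing A')
        (K' : Type u) (_ : Field K') (_ : Algebra A' K') (_ : IsFractionRing A' K') (χ : A →+* A')
        (_ : IsLocalHom χ) (k : Spec (CommRingCat.of K') ⟶ Spec (CommRingCat.of K))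
        (l : Spec (CommRingCat.of A') ⟶ X),
        genMap A' K' ≫ Spec.map (CommRingCat.ofHom χ) = k ≫ genMap A K ∧
        l ≫ f = Spec.map (CommRingCat.ofHom χ) ≫ y ∧ genMap A' K' ≫ l = k ≫ x

theorem DvrExistenceExt.of_isPullback {X' S' : Scheme.{u}} {f : X ⟶ S} {f' : X' ⟶ S'}
    {g' : X' ⟶ X} {g : S' ⟶ S} (h : IsPullback g' f' f g) (H : DvrExistenceExt f) :
    DvrExistenceExt f' := by
  intro A _ _ _ K _ _ _ x y w
  obtain ⟨A', _, _, _, K', _, _, _, χ, _, k, l, hk, hl₁, hl₂⟩ := H A K (x ≫ g') (y ≫ g) (by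
    rw [Category.assoc, h.w, reassoc_of% w])
  refine ⟨A', inferInstance, inferInstance, inferInstance, K', inferInstance, inferInstance, inferInstance,
    χ, inferInstance, k, h.lift l (Spec.map (CommRingCat.ofHom χ) ≫ y) (by rw [hl₁, Category.assoc]), hk,
    h.lift_snd _ _ _, ?_⟩
  apply h.hom_ext
  · rw [Category.assoc, h.lift_fst, hl₂, Category.assoc]
  · rw [Category.assoc, h.lift_snd, Category.assoc, w, reassoc_of% hk]

theorem DvrExistenceExt.specializingMap [IsLocallyNoetherian S] (f : X ⟶ S) [LocallyOfFiniteType f]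
    (H : DvrExistenceExt f) : SpecializingMap f := by
  intro x y' hsp
  by_cases hne : y' = f x
  · exact ⟨x, specializes_rfl, hne.symm⟩
  obtain ⟨A, h, hA, hclosed, hgen⟩ := DvrDomLib.exists_dvr_through_specialization f x y' hsp hne
  obtain ⟨A', _, _, _, K', _, _, _, χ, hχ, k, l, -, hl₁, hl₂⟩ :=
    H A (X.residueField x) (X.fromSpecResidueField x) h hgen.symm
  refine ⟨l (IsLocalRing.closedPoint A'), ?_, ?_⟩
  · let ξ : Spec (CommRingCat.of K') := IsLocalRing.closedPoint K'
    have hx : l (genMap A' K' ξ) = x := by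
      rw [← Scheme.Hom.comp_apply, hl₂, Scheme.Hom.comp_apply]
      exact Scheme.fromSpecResidueField_apply x (k ξ)
    exact (specializes_of_eq hx.symm).trans
      ((IsLocalRing.specializes_closedPoint (R := A') _).map l.continuous)
  · erw [← Scheme.Hom.comp_apply, hl₁, Scheme.Hom.comp_apply]
    rw [show (Spec.map (CommRingCat.ofHom χ)) (IsLocalRing.closedPoint A') = IsLocalRing.closedPoint A from
      IsLocalRing.comap_closedPoint χ]
    exact hclosed

theorem universallyClosed_of_dvrExistenceExt [IsLocallyNoetherian S] (f : X ⟶ S)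
    [LocallyOfFiniteType f] [QuasiCompact f] (H : DvrExistenceExt f) : UniversallyClosed f := by
  refine IsZariskiLocalAtTarget.of_openCover (P := @UniversallyClosed) S.affineOpenCover.openCover
    fun i ↦ ?_
  let B : CommRingCat.{u} := S.affineOpenCover.X i
  let g : Spec B ⟶ S := S.affineOpenCover.f i
  have : IsOpenImmersion g := S.affineOpenCover.map_prop i
  have : IsLocallyNoetherian (Spec B) := isLocallyNoetherian_of_isOpenImmersion g
  have : IsNoetherianRing B := isLocallyNoetherian_Spec.mp this
  have : QuasiCompact (pullback.snd f g) := inferInstance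
  show UniversallyClosed (pullback.snd f g)
  rw [universallyClosed_eq_universallySpecializing]
  refine ⟨DvrDomLib.Descent.universally_specializingMap _ fun D _ _ _ ↦ ?_, inferInstance⟩
  have : IsNoetherianRing (CommRingCat.of D) := Algebra.FiniteType.isNoetherianRing B D
  have : IsLocallyNoetherian (Spec (CommRingCat.of D)) := isLocallyNoetherian_Spec.mpr this
  exact DvrExistenceExt.specializingMap _
    ((H.of_isPullback (IsPullback.of_hasPullback f g)).of_isPullback
      (IsPullback.of_hasPullback _ _))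

/-- Closed subschemes inherit the existence of extensions. -/
theorem DvrExistenceExt.closedImmersion_comp {f : X ⟶ S} (H : DvrExistenceExt f) {Z : Scheme.{u}} (i : Z ⟶ X)
    [IsClosedImmersion i] : DvrExistenceExt (i ≫ f) := by
  intro A _ _ _ K _ _ _ x y w
  obtain ⟨A', _, _, _, K', _, _, _, χ, _, k, l, hk, hl₁, hl₂⟩ := H A K (x ≫ i) y (by rwa [Category.assoc])
  haveI : IsClosedImmersion (pullback.fst l i) := MorphismProperty.pullback_fst l i ‹IsClosedImmersion i›
  let c := pullback.lift (f := l) (g := i) (genMap A' K') (k ≫ x) (by rw [hl₂, Category.assoc])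
  haveI : Surjective (pullback.fst l i) := ⟨fun z => by
    have hmem : genericPoint (Spec (CommRingCat.of A')) ∈ Set.range (pullback.fst l i) := by
      have hr : genericPoint (Spec (CommRingCat.of A')) ∈ Set.range (genMap A' K') := by
        rw [range_genMap A' K']; rfl
      obtain ⟨q, hq⟩ := hr
      exact ⟨c q, by rw [← Scheme.Hom.comp_apply, pullback.lift_fst]; exact hq⟩
    exact ((genericPoint_spec (Spec (CommRingCat.of A'))).mem_closed_set_iff
      (pullback.fst l i).isClosedEmbedding.isClosed_range).1 hmem (Set.mem_univ z)⟩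
  haveI : IsIso (pullback.fst l i) := isIso_of_isClosedImmersion_of_surjective _
  refine ⟨A', inferInstance, inferInstance, inferInstance, K', inferInstance, inferInstance, inferInstance,
    χ, inferInstance, k, inv (pullback.fst l i) ≫ pullback.snd l i, hk, ?_, ?_⟩
  · rw [Category.assoc, ← Category.assoc (pullback.snd l i), ← pullback.condition, Category.assoc, IsIso.inv_hom_id_assoc,
      hl₁]
  · rw [← cancel_mono i, Category.assoc, Category.assoc, ← pullback.condition, IsIso.inv_hom_id_assoc, hl₂,
      Category.assoc]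

variable {f : X ⟶ S} {P : Over S} {φ : ∀ T : Over S, PicF.Cl (PicF.XT f T) → (T ⟶ P)}

/-- A discrete valuation ring dominating a given one inside a finite extension of its fraction field. -/
theorem exists_dvr_in_extension (A : Type u) [CommRing A] [IsDomain A] [IsDiscreteValuationRing A] (K : Type u)
    [Field K] [Algebra A K] [IsFractionRing A K] (L : Type u) [Field L] [Algebra K L] [Module.Finite K L] :
    ∃ (A' : Type u) (_ : CommRing A') (_ : IsDomain A') (_ : IsDiscreteValuationRing A') (_ : Algebra A' L)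
      (_ : IsFractionRing A' L) (χ : A →+* A'), IsLocalHom χ ∧
      (algebraMap A' L).comp χ = (algebraMap K L).comp (algebraMap A K) := by
  letI : Algebra A L := ((algebraMap K L).comp (algebraMap A K)).toAlgebra
  haveI : IsScalarTower A K L := IsScalarTower.of_algebraMap_eq' rfl
  haveI : Algebra.EssFiniteType A K := Algebra.EssFiniteType.of_isLocalization K (nonZeroDivisors A)
  haveI : Algebra.EssFiniteType A L := Algebra.EssFiniteType.comp A K L
  have hinj : Function.Injective (algebraMap A L) :=
    (algebraMap K L).injective.comp (IsFractionRing.injective A K)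
  obtain ⟨s, hs⟩ := DvrDomLib.closure_eq_top_of_essFiniteType (A := A) (L := L)
  have hker : RingHom.ker (algebraMap A L) ≤ IsLocalRing.maximalIdeal A := by
    rw [(RingHom.injective_iff_ker_eq_bot _).mp hinj]; exact bot_le
  obtain ⟨ϖ, hϖ⟩ := IsDiscreteValuationRing.exists_irreducible A
  obtain ⟨R, hR, hmem, hval⟩ := DvrDomLib.exists_dvr_dominating (IsLocalRing.maximalIdeal A) hker
    ⟨ϖ, hϖ.not_isUnit, fun h => hϖ.ne_zero (hinj (h.trans (map_zero _).symm))⟩ s hs
  let χ : A →+* R := (algebraMap A L).codRestrict R hmem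
  refine ⟨R, inferInstance, inferInstance, hR, inferInstance, inferInstance, χ, ⟨fun a ha => ?_⟩, rfl⟩
  by_contra hna
  have h1 := (hval a).mpr ((IsLocalRing.mem_maximalIdeal a).mpr hna)
  rw [← ValuationSubring.mem_nonunits_iff] at h1
  exact (ValuationSubring.coe_mem_nonunits_iff.mp h1) ha

theorem dvrExistenceExt_of_isRelPic [Smooth f] (hP : IsRelPic f P φ) : DvrExistenceExt P.hom := by
  intro A _ _ _ K _ _ _ x y w
  let T : Over S := Over.mk (genMap A K ≫ y)
  let a : T ⟶ P := Over.homMk x w
  obtain ⟨ι, U, hU, hc⟩ := hP.locallySurjective T a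
  obtain ⟨i, u₀, -⟩ := hU (IsLocalRing.closedPoint K)
  haveI : Etale (U i).hom := (U i).prop
  haveI : Etale (ovrHom T (U i)).left := (U i).prop
  obtain ⟨ψ, hψ⟩ := Spec.map_surjective (R := CommRingCat.of K) (S := (ovr T (U i)).left.residueField u₀)
    ((ovr T (U i)).left.fromSpecResidueField u₀ ≫ (ovrHom T (U i)).left)
  obtain ⟨hfin, -⟩ := AlgSpLib.finite_separable_of_etale (ovrHom T (U i)) u₀ ψ hψ
  let L := (ovr T (U i)).left.residueField u₀
  letI : Algebra K L := ψ.hom.toAlgebra
  haveI := hfin
  obtain ⟨A', _, _, _, _, _, χ, hχ, hcomp⟩ := exists_dvr_in_extension A K L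
  let k : Spec (CommRingCat.of L) ⟶ Spec (CommRingCat.of K) := Spec.map ψ
  have hk : genMap A' L ≫ Spec.map (CommRingCat.ofHom χ) = k ≫ genMap A K := by
    rw [← Spec.map_comp, ← Spec.map_comp]
    exact congrArg (fun r => Spec.map (CommRingCat.ofHom r)) hcomp
  let T' : Over S := Over.mk (Spec.map (CommRingCat.ofHom χ) ≫ y)
  let TL : Over S := Over.mk (genMap A' L ≫ T'.hom)
  let gL : TL ⟶ T' := Over.homMk (genMap A' L) rfl
  let s : TL ⟶ ovr T (U i) := Over.homMk ((ovr T (U i)).left.fromSpecResidueField u₀) (by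
    show _ ≫ (U i).hom ≫ genMap A K ≫ y = genMap A' L ≫ Spec.map _ ≫ y
    rw [reassoc_of% hk, ← Category.assoc, show (ovr T (U i)).left.fromSpecResidueField u₀ ≫ (U i).hom = k from hψ.symm])
  obtain ⟨c, ⟨N, rfl, hN⟩, hcN⟩ := hc i
  have hN' := Cls.pull hP s (show Cls φ _ N from ⟨hN, hcN⟩)
  have hpb := isPullback_XTmap (f := f) T' TL gL
  haveI : IsOpenImmersion (PicF.XTmap f gL) :=
    MorphismProperty.of_isPullback hpb.flip (show IsOpenImmersion gL.left from isOpenImmersion_genMap A' L)
  haveI : Smooth (pullback.snd f T'.hom) := MorphismProperty.pullback_snd _ _ ‹Smooth f›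
  obtain ⟨M, hM, ⟨e⟩⟩ := exists_extension (R := A') (pullback.snd f T'.hom) (PicF.XTmap f gL) hN'.1
  let l : T' ⟶ P := φ T' (PicF.cl M)
  refine ⟨A', inferInstance, inferInstance, inferInstance, L, inferInstance, inferInstance, inferInstance,
    χ, hχ, k, l.left, hk, Over.w l, ?_⟩
  have h1 : gL ≫ l = s ≫ ovrHom T (U i) ≫ a :=
    (hP.natural _ _ gL _ ⟨M, rfl, hM⟩).symm.trans
      ((congrArg (φ TL) (show PicF.pullCl (PicF.XTmap f gL) (PicF.cl M) = _ from cl_eq_iff.2 ⟨e⟩)).trans hN'.2)
  refine (congrArg CommaMorphism.left h1).trans ?_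
  show (ovr T (U i)).left.fromSpecResidueField u₀ ≫ (U i).hom ≫ x = k ≫ x
  rw [← Category.assoc, show (ovr T (U i)).left.fromSpecResidueField u₀ ≫ (U i).hom = k from hψ.symm]

theorem isProper_closedSubscheme [IsLocallyNoetherian S] [IsProper f] [Smooth f] (hP : IsRelPic f P φ)
    {Z : Scheme.{u}} (i : Z ⟶ P.left) [IsClosedImmersion i] [LocallyOfFiniteType (i ≫ P.hom)]
    [QuasiCompact (i ≫ P.hom)] : IsProper (i ≫ P.hom) := by
  haveI := isSeparated_of_isRelPic hP
  haveI := universallyClosed_of_dvrExistenceExt (i ≫ P.hom) ((dvrExistenceExt_of_isRelPic hP).closedImmersion_comp i)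
  exact { }

end PicRepLib
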