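import Groth.Agent.PicRepLib.Glue
import Groth.Agent.PicRelBCLib.Basic
import Groth.Agent.CubeConsLib.IsoCls

/-!
# The group structure on a scheme representing the relative Picard functor
-/

set_option autoImplicit false
set_option linter.style.haveILetI false
set_option maxHeartbeats 1000000
universe u

open CategoryTheory CategoryTheory.Limits MonoidalCategory CartesianMonoidalCategory AlgebraicGeometry
open PicRel (ovr ovrHom IsRelPic)
open KFlatLib (pb)

noncomputable section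

namespace PicRepLib

variable {X S : Scheme.{u}} {f : X ⟶ S} {P : Over S} {φ : ∀ T : Over S, PicF.Cl (PicF.XT f T) → (T ⟶ P)}

theorem cl_eq_iff {Y : Scheme.{u}} {L M : Y.Modules} : PicF.cl L = PicF.cl M ↔ Nonempty (L ≅ M) := by
  refine ⟨fun h => ?_, fun h => Quot.sound h⟩
  have := Quot.eqvGen_exact h
  clear h
  induction this with
  | rel a b h => exact h
  | refl a => exact ⟨Iso.refl a⟩
  | symm a b _ h => exact ⟨h.some.symm⟩
  | trans a b c _ _ h1 h2 => exact ⟨h1.some ≪≫ h2.some⟩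

/-- `a` is the point of the invertible module `L`. -/
def Cls (φ : ∀ T : Over S, PicF.Cl (PicF.XT f T) → (T ⟶ P)) {T : Over S} (a : T ⟶ P)
    (L : (PicF.XT f T).Modules) : Prop :=
  PicF.IsInvertible L ∧ φ T (PicF.cl L) = a

variable (hP : IsRelPic f P φ)
include hP

theorem Cls.pull {T T' : Over S} (g : T' ⟶ T) {a : T ⟶ P} {L : (PicF.XT f T).Modules} (h : Cls φ a L) :
    Cls φ (g ≫ a) (pb (PicF.XTmap f g) L) :=
  ⟨AmpleDevLib.isInvertible_pb _ h.1, by
    rw [← h.2, ← hP.natural T T' g _ ⟨L, rfl, h.1⟩]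
    rfl⟩

/-- To prove two morphisms equal one may suppose that a given point has a class. -/
theorem induct {T : Over S} (a : T ⟶ P) {Q : Over S} {g h : T ⟶ Q}
    (H : ∀ (T' : Over S) (e : T' ⟶ T) (L : (PicF.XT f T').Modules), Cls φ (e ≫ a) L → e ≫ g = e ≫ h) : g = h := by
  obtain ⟨ι, U, hU, hc⟩ := hP.locallySurjective T a
  refine cover_ext U hU fun i => ?_
  obtain ⟨c, ⟨L, rfl, hL⟩, hLa⟩ := hc i
  exact H _ _ L ⟨hL, hLa⟩

/-- A cover on which two points have classes. -/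
theorem exists_classes {T : Over S} (a b : T ⟶ P) : ∃ (ι : Type u) (U : ι → T.left.Etale), EtCoh.Covers U ∧
    ∀ i, ∃ L M : (PicF.XT f (ovr T (U i))).Modules,
      Cls φ (ovrHom T (U i) ≫ a) L ∧ Cls φ (ovrHom T (U i) ≫ b) M := by
  obtain ⟨ι, U, hU, hc⟩ := hP.locallySurjective T a
  choose c hc1 hc2 using hc
  choose κ V hV hd using fun i => hP.locallySurjective (ovr T (U i)) (ovrHom T (U i) ≫ b)
  refine ⟨Σ i, κ i, fun ik => MorphismProperty.Over.mk _ ((V ik.1 ik.2).hom ≫ (U ik.1).hom)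
    (MorphismProperty.comp_mem _ _ _ (V ik.1 ik.2).prop (U ik.1).prop), fun x => ?_, fun ⟨i, k⟩ => ?_⟩
  · obtain ⟨i, y, rfl⟩ := hU x
    obtain ⟨k, z, rfl⟩ := hV i y
    exact ⟨⟨i, k⟩, z, rfl⟩
  · obtain ⟨d, ⟨M, rfl, hM⟩, hd2⟩ := hd i k
    obtain ⟨L, hL, hLi⟩ := hc1 i
    let W : Over S := ovr (ovr T (U i)) (V i k)
    let Z : Over S := ovr T (MorphismProperty.Over.mk ⊤ ((V i k).hom ≫ (U i).hom)
      (MorphismProperty.comp_mem _ _ _ (V i k).prop (U i).prop))
    let θ : Z ⟶ W := Over.homMk (𝟙 _) (by simp [W, Z, ovr]; exact Category.id_comp _)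
    have hθ : θ ≫ ovrHom (ovr T (U i)) (V i k) ≫ ovrHom T (U i) = ovrHom T _ :=
      Over.OverMorphism.ext (Category.id_comp _)
    have h1 : Cls φ (ovrHom T (U i) ≫ a) L := ⟨hLi, by rw [hL]; exact hc2 i⟩
    have h2 := (h1.pull hP (ovrHom (ovr T (U i)) (V i k))).pull hP θ
    have h3 := Cls.pull hP θ (T := W) (a := ovrHom (ovr T (U i)) (V i k) ≫ ovrHom T (U i) ≫ b) ⟨hM, hd2⟩
    rw [← Category.assoc _ _ a, ← Category.assoc, hθ] at h2
    rw [← Category.assoc _ _ b, ← Category.assoc, hθ] at h3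
    exact ⟨_, _, h2, h3⟩

/-- Points with classes only depend on the class modulo local isomorphism. -/
theorem tensor_congr {T : Over S} {a b a' : T ⟶ P} {L L' M M' : (PicF.XT f T).Modules}
    (hL : Cls φ a L) (hL' : Cls φ a L') (hM : Cls φ b M) (hM' : Cls φ b M')
    (h : Cls φ a' (CohB1.tensorMod L M)) : Cls φ a' (CohB1.tensorMod L' M') := by
  refine ⟨HilbPolyLib.isInvertible_tensor hL'.1 hM'.1, ?_⟩
  obtain ⟨ι, U, hU, hiso⟩ := hP.locallyInjective T _ _ ⟨L, rfl, hL.1⟩ ⟨L', rfl, hL'.1⟩ (hL.2.trans hL'.2.symm)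
  refine cover_ext U hU fun i => ?_
  let u := ovrHom T (U i)
  have e1 : Nonempty (pb (PicF.XTmap f u) L ≅ pb (PicF.XTmap f u) L') := cl_eq_iff.1 (hiso i)
  obtain ⟨κ, V, hV, hiso'⟩ := hP.locallyInjective (ovr T (U i)) _ _ ⟨_, rfl, (hM.pull hP u).1⟩
    ⟨_, rfl, (hM'.pull hP u).1⟩ ((hM.pull hP u).2.trans (hM'.pull hP u).2.symm)
  refine cover_ext V hV fun k => ?_
  let v := ovrHom (ovr T (U i)) (V k)
  have e2 : Nonempty (pb (PicF.XTmap f v) (pb (PicF.XTmap f u) M) ≅ pb (PicF.XTmap f v) (pb (PicF.XTmap f u) M')) :=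
    cl_eq_iff.1 (hiso' k)
  have h1 := ((h.pull hP u).pull hP v).2
  have h2 := (Cls.pull hP v (Cls.pull hP u
    (show Cls φ (φ T (PicF.cl (CohB1.tensorMod L' M'))) _ from ⟨HilbPolyLib.isInvertible_tensor hL'.1 hM'.1, rfl⟩))).2
  rw [← h2, ← h1]
  refine congrArg _ (cl_eq_iff.2 ?_)
  let p := PicF.XTmap f u
  let q := PicF.XTmap f v
  let t : ∀ A B : (PicF.XT f T).Modules, pb q (pb p (CohB1.tensorMod A B)) ≅
      CohB1.tensorMod (pb q (pb p A)) (pb q (pb p B)) := fun A B =>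
    (Scheme.Modules.pullback q).mapIso (@asIso _ _ _ _ (KFlatLib.pullθ p A B) (KFlatLib.isIso_pullθ p A B)) ≪≫
      @asIso _ _ _ _ (KFlatLib.pullθ q (pb p A) (pb p B)) (KFlatLib.isIso_pullθ q _ _)
  exact ⟨t L' M' ≪≫ HilbPolyLib.congrLeft ((Scheme.Modules.pullback q).mapIso e1.some.symm) _ ≪≫
    HilbPolyLib.congrRight _ e2.some.symm ≪≫ (t L M).symm⟩

/-- The defining property of a multiplication. -/
theorem exists_mul : ∃ μ : P ⊗ P ⟶ P, ∀ (T : Over S) (a b : T ⟶ P) (L M : (PicF.XT f T).Modules),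
    Cls φ a L → Cls φ b M → Cls φ (lift a b ≫ μ) (CohB1.tensorMod L M) := by
  obtain ⟨ι, U, hU, hc⟩ := exists_classes hP (fst P P) (snd P P)
  choose L M hL hM using hc
  have key : ∀ (i : ι) {T : Over S} (p : T ⟶ ovr (P ⊗ P) (U i)),
      Cls φ (p ≫ φ _ (PicF.cl (CohB1.tensorMod (L i) (M i))))
        (CohB1.tensorMod (pb (PicF.XTmap f p) (L i)) (pb (PicF.XTmap f p) (M i))) := fun i T p => by
    have h := Cls.pull hP p
      (show Cls φ (φ _ (PicF.cl (CohB1.tensorMod (L i) (M i)))) _ from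
        ⟨HilbPolyLib.isInvertible_tensor (hL i).1 (hM i).1, rfl⟩)
    refine ⟨HilbPolyLib.isInvertible_tensor (AmpleDevLib.isInvertible_pb _ (hL i).1)
      (AmpleDevLib.isInvertible_pb _ (hM i).1), Eq.trans (congrArg _ (cl_eq_iff.2 ⟨?_⟩)) h.2⟩
    exact (@asIso _ _ _ _ (KFlatLib.pullθ (PicF.XTmap f p) (L i) (M i)) (KFlatLib.isIso_pullθ _ _ _)).symm
  obtain ⟨μ, hμ⟩ := exists_glue U hU (fun i => φ _ (PicF.cl (CohB1.tensorMod (L i) (M i))))
    fun i j Z p q hpq => by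
      have h1 := (hL i).pull hP p
      have h2 := (hL j).pull hP q
      have h3 := (hM i).pull hP p
      have h4 := (hM j).pull hP q
      rw [← Category.assoc] at h1 h2 h3 h4
      rw [← hpq] at h2 h4
      exact (tensor_congr hP h1 h2 h3 h4 (key i p)).2.symm.trans (key j q).2
  refine ⟨μ, fun T a b L' M' ha hb => ?_⟩
  refine ⟨HilbPolyLib.isInvertible_tensor ha.1 hb.1, ?_⟩
  let g : T ⟶ P ⊗ P := lift a b
  obtain ⟨κ, V, hV, hlift⟩ : ∃ (κ : Type u) (V : κ → T.left.Etale), EtCoh.Covers V ∧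
      ∀ k, ∃ (i : ι) (p : ovr T (V k) ⟶ ovr (P ⊗ P) (U i)), p ≫ ovrHom (P ⊗ P) (U i) = ovrHom T (V k) ≫ g := by
    refine ⟨ι, fun i => MorphismProperty.Over.mk _ (pullback.fst g.left (U i).hom)
      (MorphismProperty.pullback_fst _ _ (U i).prop), fun x => ?_, fun i => ⟨i,
        Over.homMk (pullback.snd g.left (U i).hom) ?_, Over.OverMorphism.ext pullback.condition.symm⟩⟩
    · obtain ⟨i, y, hy⟩ := hU (g.left x)
      obtain ⟨z, hz, -⟩ := Scheme.Pullback.exists_preimage_pullback (f := g.left) (g := (U i).hom) x y hy.symm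
      exact ⟨i, z, hz⟩
    · show pullback.snd _ _ ≫ (U i).hom ≫ (P ⊗ P).hom = pullback.fst _ _ ≫ T.hom
      rw [← pullback.condition_assoc, Over.w g]
  refine cover_ext V hV fun k => ?_
  obtain ⟨i, p, hp⟩ := hlift k
  have h1 := (hL i).pull hP p
  have h2 := (hM i).pull hP p
  rw [← Category.assoc, hp, Category.assoc, lift_fst] at h1
  rw [← Category.assoc, hp, Category.assoc, lift_snd] at h2
  have h3 := tensor_congr hP h1 (ha.pull hP _) h2 (hb.pull hP _) (key i p)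
  have h4 := Cls.pull hP (ovrHom T (V k))
    (show Cls φ (φ T (PicF.cl (CohB1.tensorMod L' M'))) _ from ⟨HilbPolyLib.isInvertible_tensor ha.1 hb.1, rfl⟩)
  rw [← h4.2, ← Category.assoc, ← hp, Category.assoc, hμ, ← h3.2]
  exact congrArg _ (cl_eq_iff.2 ⟨@asIso _ _ _ _ (KFlatLib.pullθ _ L' M') (KFlatLib.isIso_pullθ _ _ _)⟩)

/-- The unit point. -/
theorem cls_one {T : Over S} : Cls φ (toUnit T ≫ φ (𝟙_ (Over S)) (PicF.cl (Coh.structureModule _)))
    (Coh.structureModule (PicF.XT f T)) := by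
  have h1 := (CohCmpLib.invertible_iff_rank_one _).2 (CohCmpLib.rank_one_structureModule (PicF.XT f (𝟙_ (Over S))))
  have h := Cls.pull hP (toUnit T) (show Cls φ (φ (𝟙_ (Over S)) (PicF.cl (Coh.structureModule _))) _ from ⟨h1, rfl⟩)
  refine ⟨(CohCmpLib.invertible_iff_rank_one _).2 (CohCmpLib.rank_one_structureModule _), ?_⟩
  rw [← h.2]
  exact congrArg _ (cl_eq_iff.2 ⟨(KFlatLib.pullUnitIso _).symm⟩)

/-- Equal classes give equal points. -/
theorem eq_of_iso {T : Over S} {a b : T ⟶ P} {L M : (PicF.XT f T).Modules} (hL : Cls φ a L) (hM : Cls φ b M)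
    (e : L ≅ M) : a = b := by
  rw [← hL.2, ← hM.2]
  exact congrArg _ (cl_eq_iff.2 ⟨e⟩)

/-- The inverse. -/
theorem exists_inv : ∃ ν : P ⟶ P, ∀ (T : Over S) (a : T ⟶ P) (L : (PicF.XT f T).Modules),
    Cls φ a L → ∃ L', Cls φ (a ≫ ν) L' ∧ Nonempty (CohB1.tensorMod L L' ≅ Coh.structureModule (PicF.XT f T)) := by
  obtain ⟨ι, U, hU, hc⟩ := hP.locallySurjective P (𝟙 P)
  choose c hc1 hc2 using hc
  choose L hLc hL using hc1
  have hci : ∀ i, Cls φ (ovrHom P (U i)) (L i) := fun i =>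
    ⟨hL i, by rw [hLc i, hc2 i, Category.comp_id]⟩
  let a : ∀ i, ovr P (U i) ⟶ P := fun i => φ _ (PicF.cl (MiscFlat6.dual (L i)))
  have hd : ∀ i, Cls φ (a i) (MiscFlat6.dual (L i)) := fun i => ⟨MiscFlat6.dual_isInvertible (hL i), rfl⟩
  have key : ∀ {T : Over S} {b : T ⟶ P} {M M' N N' : (PicF.XT f T).Modules}, Cls φ b M → Cls φ b M' →
      PicF.IsInvertible N → PicF.IsInvertible N' → (CohB1.tensorMod M N ≅ Coh.structureModule _) →
      (CohB1.tensorMod M' N' ≅ Coh.structureModule _) → φ T (PicF.cl N) = φ T (PicF.cl N') := by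
    intro T b M M' N N' hM hM' hN hN' e e'
    obtain ⟨κ, V, hV, hiso⟩ := hP.locallyInjective T _ _ ⟨M, rfl, hM.1⟩ ⟨M', rfl, hM'.1⟩ (hM.2.trans hM'.2.symm)
    refine cover_ext V hV fun k => ?_
    let r := PicF.XTmap f (ovrHom T (V k))
    obtain ⟨d⟩ : Nonempty (pb r M ≅ pb r M') := cl_eq_iff.1 (hiso k)
    rw [← (Cls.pull hP _ (show Cls φ _ N from ⟨hN, rfl⟩)).2,
      ← (Cls.pull hP _ (show Cls φ _ N' from ⟨hN', rfl⟩)).2]
    refine congrArg _ (cl_eq_iff.2 (CubeConsLib.cl_eq_iff.1 ?_))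
    have u1 := congrArg (CubeConsLib.pull r) (CubeConsLib.cl_eq_one_iff.2 ⟨e⟩)
    have u2 := congrArg (CubeConsLib.pull r) (CubeConsLib.cl_eq_one_iff.2 ⟨e'⟩)
    rw [CubeConsLib.cl_tensor, map_mul, map_one] at u1 u2
    simp only [CubeConsLib.pull_cl] at u1 u2
    rw [← CubeConsLib.cl_eq_iff.2 ⟨d⟩] at u2
    exact left_inv_eq_right_inv ((mul_comm _ _).trans u1) u2
  obtain ⟨ν, hν⟩ := exists_glue U hU a fun i j Z p q hpq => by
    rw [← ((hd i).pull hP p).2, ← ((hd j).pull hP q).2]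
    have h1 := (hci i).pull hP p
    have h2 := (hci j).pull hP q
    rw [← hpq] at h2
    refine key h1 h2 ((hd i).pull hP p).1 ((hd j).pull hP q).1 ?_ ?_
    · exact (@asIso _ _ _ _ (KFlatLib.pullθ _ _ _) (KFlatLib.isIso_pullθ _ _ _)).symm ≪≫
        (Scheme.Modules.pullback _).mapIso (MiscFlat6.nonempty_dualIso (hL i)).some ≪≫ KFlatLib.pullUnitIso _
    · exact (@asIso _ _ _ _ (KFlatLib.pullθ _ _ _) (KFlatLib.isIso_pullθ _ _ _)).symm ≪≫
        (Scheme.Modules.pullback _).mapIso (MiscFlat6.nonempty_dualIso (hL j)).some ≪≫ KFlatLib.pullUnitIso _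
  refine ⟨ν, fun T b M hb => ⟨MiscFlat6.dual M, ⟨MiscFlat6.dual_isInvertible hb.1, ?_⟩,
    MiscFlat6.nonempty_dualIso hb.1⟩⟩
  obtain ⟨κ, V, hV, hlift⟩ : ∃ (κ : Type u) (V : κ → T.left.Etale), EtCoh.Covers V ∧
      ∀ k, ∃ (i : ι) (p : ovr T (V k) ⟶ ovr P (U i)), p ≫ ovrHom P (U i) = ovrHom T (V k) ≫ b := by
    refine ⟨ι, fun i => MorphismProperty.Over.mk _ (pullback.fst b.left (U i).hom)
      (MorphismProperty.pullback_fst _ _ (U i).prop), fun x => ?_, fun i => ⟨i,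
        Over.homMk (pullback.snd b.left (U i).hom) ?_, Over.OverMorphism.ext pullback.condition.symm⟩⟩
    · obtain ⟨i, y, hy⟩ := hU (b.left x)
      obtain ⟨z, hz, -⟩ := Scheme.Pullback.exists_preimage_pullback (f := b.left) (g := (U i).hom) x y hy.symm
      exact ⟨i, z, hz⟩
    · show pullback.snd _ _ ≫ (U i).hom ≫ P.hom = pullback.fst _ _ ≫ T.hom
      rw [← pullback.condition_assoc, Over.w b]
  refine cover_ext V hV fun k => ?_
  obtain ⟨i, p, hp⟩ := hlift k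
  rw [← Category.assoc, ← hp, Category.assoc, hν, ← ((hd i).pull hP p).2,
    ← (Cls.pull hP _ (show Cls φ _ (MiscFlat6.dual M) from ⟨MiscFlat6.dual_isInvertible hb.1, rfl⟩)).2]
  have h1 := (hci i).pull hP p
  rw [hp] at h1
  refine key (hb.pull hP (ovrHom T (V k))) h1 (AmpleDevLib.isInvertible_pb _ (MiscFlat6.dual_isInvertible hb.1))
    ((hd i).pull hP p).1 ?_ ?_
  · exact (@asIso _ _ _ _ (KFlatLib.pullθ _ _ _) (KFlatLib.isIso_pullθ _ _ _)).symm ≪≫
      (Scheme.Modules.pullback _).mapIso (MiscFlat6.nonempty_dualIso hb.1).some ≪≫ KFlatLib.pullUnitIso _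
  · exact (@asIso _ _ _ _ (KFlatLib.pullθ _ _ _) (KFlatLib.isIso_pullθ _ _ _)).symm ≪≫
      (Scheme.Modules.pullback _).mapIso (MiscFlat6.nonempty_dualIso (hL i)).some ≪≫ KFlatLib.pullUnitIso _

/-- **The Picard scheme is a commutative group scheme**, with multiplication induced by the tensor product. -/
theorem exists_grpObj : ∃ G : GrpObj P,
    letI := G
    IsCommMonObj P ∧
    MonObj.one (X := P) = φ (𝟙_ (Over S)) (PicF.cl (Coh.structureModule _)) ∧
    ∀ (T : Over S) (a b : T ⟶ P) (L M : (PicF.XT f T).Modules), Cls φ a L → Cls φ b M →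
      Cls φ (lift a b ≫ MonObj.mul (X := P)) (CohB1.tensorMod L M) := by
  obtain ⟨μ, hμ⟩ := exists_mul hP
  obtain ⟨ν, hν⟩ := exists_inv hP
  let e₀ : 𝟙_ (Over S) ⟶ P := φ (𝟙_ (Over S)) (PicF.cl (Coh.structureModule _))
  have assoc : ∀ {T : Over S} (a b c : T ⟶ P), lift (lift a b ≫ μ) c ≫ μ = lift a (lift b c ≫ μ) ≫ μ := by
    intro T a b c
    refine induct hP a fun T₁ e L hL => induct hP (e ≫ b) fun T₂ e' M hM => induct hP (e' ≫ e ≫ c) fun T₃ e'' N hN => ?_
    have hL' := (hL.pull hP e').pull hP e''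
    have hM' := hM.pull hP e''
    simp only [comp_lift_assoc, comp_lift]
    exact eq_of_iso hP (hμ _ _ _ _ _ (hμ _ _ _ _ _ hL' hM') hN) (hμ _ _ _ _ _ hL' (hμ _ _ _ _ _ hM' hN))
      (HilbPolyLib.assocIso _ _ _)
  have comm : ∀ {T : Over S} (a b : T ⟶ P), lift a b ≫ μ = lift b a ≫ μ := by
    intro T a b
    refine induct hP a fun T₁ e L hL => induct hP (e ≫ b) fun T₂ e' M hM => ?_
    simp only [comp_lift_assoc]
    exact eq_of_iso hP (hμ _ _ _ _ _ (hL.pull hP e') hM) (hμ _ _ _ _ _ hM (hL.pull hP e')) (HilbPolyLib.swapIso _ _)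
  have onem : ∀ {T : Over S} (a : T ⟶ P), lift (toUnit T ≫ e₀) a ≫ μ = a := by
    intro T a
    refine induct hP a fun T₁ e L hL => ?_
    simp only [comp_lift_assoc]
    rw [← Category.assoc, comp_toUnit]
    exact eq_of_iso hP (hμ _ _ _ _ _ (cls_one hP) hL) hL (HilbPolyLib.unitLeft _)
  have invm : ∀ {T : Over S} (a : T ⟶ P), lift a (a ≫ ν) ≫ μ = toUnit T ≫ e₀ := by
    intro T a
    refine induct hP a fun T₁ e L hL => ?_
    simp only [comp_lift_assoc]
    rw [← Category.assoc e (toUnit T), comp_toUnit, ← Category.assoc]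
    obtain ⟨L', hL', ⟨t⟩⟩ := hν _ _ _ hL
    exact eq_of_iso hP (hμ _ _ _ _ _ hL hL') (cls_one hP) t
  letI G : GrpObj P := by
    refine {
      one := e₀
      mul := μ
      one_mul := ?_
      mul_one := ?_
      mul_assoc := ?_
      inv := ν
      left_inv := ?_
      right_inv := ?_ }
    · rw [show e₀ ▷ P = lift (toUnit _ ≫ e₀) (snd _ _) from CartesianMonoidalCategory.hom_ext _ _
        (by simp [show fst (𝟙_ (Over S)) P = toUnit _ from toUnit_unique _ _]) (by simp), onem]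
      exact (leftUnitor_hom _).symm
    · rw [show P ◁ e₀ = lift (fst _ _) (toUnit _ ≫ e₀) from CartesianMonoidalCategory.hom_ext _ _
        (by simp) (by simp [show snd P (𝟙_ (Over S)) = toUnit _ from toUnit_unique _ _]), comm, onem]
      exact (rightUnitor_hom _).symm
    · rw [show μ ▷ P = lift (fst (P ⊗ P) P ≫ μ) (snd _ _) from CartesianMonoidalCategory.hom_ext _ _ (by simp) (by simp)]
      rw [show fst (P ⊗ P) P ≫ μ = lift (fst _ _ ≫ fst _ _) (fst _ _ ≫ snd _ _) ≫ μ by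
        rw [← comp_lift, lift_fst_snd, Category.comp_id], assoc, ← Category.assoc]
      refine congrArg (· ≫ μ) (CartesianMonoidalCategory.hom_ext _ _ (by simp) ?_)
      simp only [lift_snd, Category.assoc, whiskerLeft_snd]
      refine Eq.trans ?_ (Category.assoc _ _ _)
      refine congrArg (· ≫ μ) (CartesianMonoidalCategory.hom_ext _ _ ?_ ?_)
      · rw [lift_fst, Category.assoc, associator_hom_snd_fst]
      · rw [lift_snd, Category.assoc, associator_hom_snd_snd]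
    · rw [comm]
      exact (congrArg (fun r => lift (𝟙 P) r ≫ μ) (Category.id_comp ν).symm).trans (invm (𝟙 P))
    · exact (congrArg (fun r => lift (𝟙 P) r ≫ μ) (Category.id_comp ν).symm).trans (invm (𝟙 P))
  refine ⟨G, ⟨?_⟩, rfl, hμ⟩
  · show (β_ P P).hom ≫ μ = μ
    rw [show (β_ P P).hom = lift (snd _ _) (fst _ _) from
      CartesianMonoidalCategory.hom_ext _ _ (by simp) (by simp), comm, lift_fst_snd, Category.id_comp]

end PicRepLib

end
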