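import Groth.Agent.PicRepLib.SqRoot
import Groth.Agent.PicRepLib.Tangent
import Groth.Agent.UnrStalkLib.FieldScheme
import Groth.Agent.UnrStalkLib.DualNumbers
import Groth.Agent.PicRepLib.Lft

/-!
# Multiplication by `n` on the Picard scheme is unramified where `n` is invertible
-/

set_option autoImplicit false
set_option linter.style.haveILetI false
set_option backward.isDefEq.respectTransparency false
set_option maxRecDepth 8000
set_option maxHeartbeats 2000000
universe u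

open CategoryTheory CategoryTheory.Limits AlgebraicGeometry TrivSqZeroExt
open PicRel (ovr ovrHom IsRelPic)
open KFlatLib (pb)

noncomputable section

namespace PicRepLib

/-- Every étale covering has a section. -/
def HasSect {S : Scheme.{u}} (T : Over S) : Prop :=
  ∀ {ι : Type u} (U : ι → T.left.Etale), EtCoh.Covers U → ∃ (i : ι) (s : T ⟶ ovr T (U i)), s ≫ ovrHom T (U i) = 𝟙 _

variable {X S : Scheme.{u}} {f : X ⟶ S} {P : Over S} {φ : ∀ T : Over S, PicF.Cl (PicF.XT f T) → (T ⟶ P)}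

theorem iso_of_eq_sect (hP : IsRelPic f P φ) {T : Over S} (hT : HasSect T) {L L' : (PicF.XT f T).Modules}
    (hL : PicF.IsInvertible L) (hL' : PicF.IsInvertible L')
    (h : φ T (PicF.cl L) = φ T (PicF.cl L')) : Nonempty (L ≅ L') := by
  obtain ⟨ι, U, hU, hiso⟩ := hP.locallyInjective T _ _ ⟨L, rfl, hL⟩ ⟨L', rfl, hL'⟩ h
  obtain ⟨i, s, hs⟩ := hT U hU
  refine cl_eq_iff.1 ?_
  have h2 := congrArg (PicF.pullCl (PicF.XTmap f s)) (hiso i)
  rw [PicRelBCLib.pullCl_pullCl, PicRelBCLib.pullCl_pullCl, ← PicGrp.XTmap_comp, hs, PicGrp.XTmap_id,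
    PicRelBCLib.pullCl_id, PicRelBCLib.pullCl_id] at h2
  exact h2

theorem exists_cls_sect (hP : IsRelPic f P φ) {T : Over S} (hT : HasSect T) (v : T ⟶ P) : ∃ L, Cls φ v L := by
  obtain ⟨ι, U, hU, hc⟩ := hP.locallySurjective T v
  obtain ⟨i, s, hs⟩ := hT U hU
  obtain ⟨c, ⟨L, rfl, hL⟩, hc⟩ := hc i
  have h := Cls.pull hP s (show Cls φ _ L from ⟨hL, hc⟩)
  rw [reassoc_of% hs] at h
  exact ⟨_, h⟩

theorem isPullback_XTmap (T T' : Over S) (g : T' ⟶ T) :
    IsPullback (PicF.XTmap f g) (pullback.snd f T'.hom) (pullback.snd f T.hom) g.left := by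
  refine IsPullback.of_right ?_ (PicRelBCLib.XTmap_snd f g) (IsPullback.of_hasPullback f T.hom)
  rw [PicRelBCLib.XTmap_fst, Over.w g]
  exact IsPullback.of_hasPullback f T'.hom

variable {K : Type u} [Field K]

/-- The first order neighbourhood of a field valued point. -/
abbrev dpt (b : Spec (CommRingCat.of K) ⟶ S) : Over S :=
  Over.mk (Spec.map (CommRingCat.ofHom (inlHom K K)) ≫ b)

/-- Its closed point. -/
abbrev dcl (b : Spec (CommRingCat.of K) ⟶ S) : Over.mk b ⟶ dpt b :=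
  Over.homMk (Spec.map (CommRingCat.ofHom (fstHom K K K).toRingHom)) (by
    show Spec.map _ ≫ Spec.map _ ≫ b = b
    rw [← Category.assoc, ← Spec.map_comp]
    exact (congrArg (· ≫ b) (Spec.map_id _)).trans (Category.id_comp b))

/-- Its projection. -/
abbrev dpr (b : Spec (CommRingCat.of K) ⟶ S) : dpt b ⟶ Over.mk b :=
  Over.homMk (Spec.map (CommRingCat.ofHom (inlHom K K))) rfl

theorem hasSect_dpt [IsAlgClosed K] (b : Spec (CommRingCat.of K) ⟶ S) : HasSect (dpt b) := fun U hU =>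
  Tan.exists_sect (fstHom K K K).toRingHom (fun c => ⟨inl c, fst_inl K c⟩)
    (fun a b ha hb => TrivSqZeroExt.ext (by simp [show a.fst = 0 from ha]) (by simp [show a.fst = 0 from ha, show b.fst = 0 from hb]))
    _ U hU

theorem hasSect_pt [IsAlgClosed K] (b : Spec (CommRingCat.of K) ⟶ S) : HasSect (Over.mk b) := fun U hU =>
  Tan.exists_sect (RingHom.id K) (fun c => ⟨c, rfl⟩) (fun a b (ha : a = 0) _ => by rw [ha, zero_mul]) _ U hU

variable {n : ℕ} {m : P ⟶ P}

/-- Multiplication by an invertible integer is injective on first order points. -/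
theorem eq_of_pow (hP : IsRelPic f P φ)
    (hm : ∀ (T : Over S) (L : (PicF.XT f T).Modules), PicF.IsInvertible L →
      φ T (PicF.cl (CohB1.tensorPow L n)) = φ T (PicF.cl L) ≫ m)
    [IsAlgClosed K] (hn : (n : K) ≠ 0) (b : Spec (CommRingCat.of K) ⟶ S) {w₁ w₂ : dpt b ⟶ P}
    (h₀ : dcl b ≫ w₁ = dcl b ≫ w₂) (hmw : w₁ ≫ m = w₂ ≫ m) : w₁ = w₂ := by
  obtain ⟨L₁, hL₁, e₁⟩ := exists_cls_sect hP (hasSect_dpt b) w₁
  obtain ⟨L₂, hL₂, e₂⟩ := exists_cls_sect hP (hasSect_dpt b) w₂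
  let X₀ := PicF.XT f (Over.mk b)
  let rr := PicF.XTmap f (dpr b)
  let ii := PicF.XTmap f (dcl b)
  have hir : ii ≫ rr = 𝟙 X₀ := by
    show PicF.XTmap f (dcl b) ≫ PicF.XTmap f (dpr b) = _
    rw [← PicGrp.XTmap_comp, ← PicGrp.XTmap_id]
    refine congrArg (PicF.XTmap f) (Over.OverMorphism.ext ?_)
    show Spec.map _ ≫ Spec.map _ = 𝟙 _
    rw [← Spec.map_comp]
    exact Spec.map_id _
  obtain ⟨D, hDi, hDr, -⟩ := Tan.exists_dual (k := K) (s := pullback.snd f b) (r := rr)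
    (j := pullback.snd f (dpt b).hom) (isPullback_XTmap _ _ (dpr b)) (i := ii) (isPullback_XTmap _ _ (dcl b)) hir
  letI : (pullback f b).Over (Spec (CommRingCat.of K)) := ⟨pullback.snd f b⟩
  have hi : Function.Surjective D.i.base := by
    rw [hDi]
    haveI : Surjective ii := MorphismProperty.of_isPullback (isPullback_XTmap _ _ (dcl b)).flip
      (DualUnitsLib.surjective_specMap_fst K)
    exact ii.surjective
  obtain ⟨c₁, hc₁⟩ := PicH1Lib.exists_rel_of_isInvertible (Tan.isHomeomorph_r D hi) hL₁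
  obtain ⟨c₂, hc₂⟩ := PicH1Lib.exists_rel_of_isInvertible (Tan.isHomeomorph_r D hi) hL₂
  have hres : Nonempty (pb D.i L₁ ≅ pb D.i L₂) := by
    rw [hDi]
    refine iso_of_eq_sect hP (hasSect_pt b) (AmpleDevLib.isInvertible_pb _ hL₁) (AmpleDevLib.isInvertible_pb _ hL₂) ?_
    exact ((hP.natural _ _ (dcl b) _ ⟨L₁, rfl, hL₁⟩).trans (by rw [e₁, h₀, ← e₂])).trans
      (hP.natural _ _ (dcl b) _ ⟨L₂, rfl, hL₂⟩).symm
  obtain ⟨e⟩ := hres
  have h1 := ((Tan.rel_pb D.i hc₁).of_iso _ e).unique _ (Tan.rel_pb D.i hc₂)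
  obtain ⟨x, hx⟩ := Tan.exists_Eh D (c₁ - c₂) (by rw [map_sub, h1, sub_self])
  have hpow : φ _ (PicF.cl (CohB1.tensorPow L₁ n)) = φ _ (PicF.cl (CohB1.tensorPow L₂ n)) := by
    rw [hm _ _ hL₁, hm _ _ hL₂, e₁, e₂, hmw]
  obtain ⟨e'⟩ := iso_of_eq_sect hP (hasSect_dpt b) (rel_tensorPow hc₁ n).isInvertible (rel_tensorPow hc₂ n).isInvertible hpow
  have h2 : n • c₁ = n • c₂ := ((rel_tensorPow hc₁ n).of_iso _ e').unique _ (rel_tensorPow hc₂ n)
  have h3 : n • x = 0 := Tan.Eh_injective D (by rw [map_nsmul, hx, nsmul_sub, h2, sub_self, map_zero])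
  rw [← Nat.cast_smul_eq_nsmul K, smul_eq_zero] at h3
  rw [h3.resolve_left hn, map_zero, eq_comm, sub_eq_zero] at hx
  obtain ⟨e''⟩ := (hx ▸ hc₁ : PicH1Lib.Rel D.r L₁ c₂).iso_of_eq hc₂
  rw [← e₁, ← e₂]
  exact congrArg (φ _) (cl_eq_iff.2 ⟨e''⟩)

theorem isUnit_natCast_of_hom (n : ℕ) {T : Scheme.{u}}
    (g : T ⟶ ((P.left.basicOpen (n : Γ(P.left, ⊤)) : P.left.Opens) : Scheme.{u})) : IsUnit (n : Γ(T, ⊤)) := by
  let O := P.left.basicOpen (n : Γ(P.left, ⊤))
  have h1 : IsUnit (n : Γ(P.left, O)) := by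
    have h := P.left.toRingedSpace.isUnit_res_basicOpen (n : Γ(P.left, ⊤))
    rw [map_natCast] at h
    exact h
  have h2 : IsUnit (n : Γ((O : Scheme.{u}), ⊤)) := by
    have h := h1.map O.topIso.inv.hom
    rwa [map_natCast] at h
  have h3 := h2.map g.appTop.hom
  rwa [map_natCast] at h3

variable [IsLocallyNoetherian S] [LocallyOfFiniteType P.hom]

theorem formallyUnramified_basicOpen (hP : IsRelPic f P φ)
    (hm : ∀ (T : Over S) (L : (PicF.XT f T).Modules), PicF.IsInvertible L →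
      φ T (PicF.cl (CohB1.tensorPow L n)) = φ T (PicF.cl L) ≫ m) :
    FormallyUnramified ((P.left.basicOpen (n : Γ(P.left, ⊤))).ι ≫ m.left) := by
  let O := P.left.basicOpen (n : Γ(P.left, ⊤))
  let g := O.ι ≫ m.left
  haveI : LocallyOfFiniteType (g ≫ P.hom) := by
    rw [show g ≫ P.hom = O.ι ≫ P.hom by rw [Category.assoc, Over.w m]]
    infer_instance
  haveI : LocallyOfFiniteType g := locallyOfFiniteType_of_comp g P.hom
  refine (UnrStalkLib.formallyUnramified_iff_geometricFibres g).2 fun K _ _ y =>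
    (UnrStalkLib.formallyUnramified_field_iff K (pullback.snd g y)).1
      ((UnrStalkLib.formallyUnramified_iff_dualNumber (pullback.snd g y)).2 fun v₁ v₂ hv₁ hv₂ h12 => ?_)
  let b := y ≫ P.hom
  let q := pullback.fst g y ≫ O.ι
  have hq : q ≫ P.hom = pullback.snd g y ≫ b := by
    show (_ ≫ O.ι) ≫ P.hom = _
    rw [Category.assoc, ← Over.w m, ← Category.assoc O.ι, ← Category.assoc, pullback.condition, Category.assoc]
  have hov : ∀ v, v ≫ pullback.snd g y = Spec.map (CommRingCat.ofHom (algebraMap K (DualNumber K))) →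
      (v ≫ q) ≫ P.hom = Spec.map (CommRingCat.ofHom (inlHom K K)) ≫ b := fun v hv => by
    rw [Category.assoc, hq, reassoc_of% hv]
    rfl
  let w₁ : dpt b ⟶ P := Over.homMk (v₁ ≫ q) (hov v₁ hv₁)
  let w₂ : dpt b ⟶ P := Over.homMk (v₂ ≫ q) (hov v₂ hv₂)
  have h0 : dcl b ≫ w₁ = dcl b ≫ w₂ := Over.OverMorphism.ext (by
    show Spec.map _ ≫ v₁ ≫ q = Spec.map _ ≫ v₂ ≫ q
    rw [reassoc_of% h12])
  have hmw : w₁ ≫ m = w₂ ≫ m := Over.OverMorphism.ext (by
    show (v₁ ≫ q) ≫ m.left = (v₂ ≫ q) ≫ m.left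
    simp only [q, Category.assoc, show O.ι ≫ m.left = g from rfl, pullback.condition, reassoc_of% hv₁, reassoc_of% hv₂])
  have hn : (n : K) ≠ 0 := by
    have h := isUnit_natCast_of_hom (P := P) n (Spec.map (CommRingCat.ofHom (fstHom K K K).toRingHom) ≫ v₁ ≫ pullback.fst g y)
    have h' := h.map (Scheme.ΓSpecIso (CommRingCat.of K)).hom.hom
    rw [map_natCast] at h'
    exact h'.ne_zero
  have h := congrArg CommaMorphism.left (eq_of_pow hP hm hn b h0 hmw)
  change v₁ ≫ pullback.fst g y ≫ O.ι = v₂ ≫ pullback.fst g y ≫ O.ι at h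
  rw [← Category.assoc, ← Category.assoc, cancel_mono] at h
  exact pullback.hom_ext h (hv₁.trans hv₂.symm)

end PicRepLib
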