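import Groth.Agent.PicRepLib.DvrTriv
import Groth.Agent.PicRepLib.DvrChart
import Groth.Agent.PicRepLib.NthUnr
import Groth.Agent.DvrDom.Criteria
import Groth.Agent.PicRepLib.Lft

/-!
# Valuative criteria for the Picard scheme of a smooth proper scheme
-/

set_option autoImplicit false
set_option linter.style.haveILetI false
set_option maxHeartbeats 1000000
universe u

open CategoryTheory CategoryTheory.Limits AlgebraicGeometry
open PicRel (ovr ovrHom IsRelPic)
open KFlatLib (pb)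

noncomputable section

namespace PicRepLib

variable {X S : Scheme.{u}} {f : X ⟶ S} {P : Over S} {φ : ∀ T : Over S, PicF.Cl (PicF.XT f T) → (T ⟶ P)}

theorem range_subset_of_isPullback {Y Y' Z Z' : Scheme.{u}} {t : Y' ⟶ Y} {q' : Y' ⟶ Z'} {q : Y ⟶ Z} {j : Z' ⟶ Z}
    (h : IsPullback t q' q j) : q ⁻¹' Set.range j ⊆ Set.range t := by
  rintro y ⟨z, hz⟩
  obtain ⟨w, hw, -⟩ := Scheme.Pullback.exists_preimage_pullback (f := q) (g := j) y z hz.symm
  refine ⟨h.isoPullback.inv w, ?_⟩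
  rw [← Scheme.Hom.comp_apply, h.isoPullback_inv_fst]
  exact hw

theorem dvrUniqueness_of_isRelPic [IsProper f] [Smooth f] (hP : IsRelPic f P φ) :
    DvrDomLib.DvrUniqueness P.hom := by
  intro A _ _ _ l₁ l₂ hb hgen
  let T : Over S := Over.mk (l₁ ≫ P.hom)
  let a₁ : T ⟶ P := Over.homMk l₁ rfl
  let a₂ : T ⟶ P := Over.homMk l₂ hb.symm
  obtain ⟨ι, U, hU, hc⟩ := exists_classes hP a₁ a₂
  obtain ⟨B, _, _, _, _, χ, hχl, hχi, i, s₀, hs₀⟩ := exists_dvr_chart (l₁ ≫ P.hom) U hU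
  let TB : Over S := Over.mk (Spec.map (CommRingCat.ofHom χ) ≫ T.hom)
  let c : TB ⟶ T := Over.homMk (Spec.map (CommRingCat.ofHom χ)) rfl
  let s : TB ⟶ ovr T (U i) := Over.homMk s₀ (by
    show s₀ ≫ (U i).hom ≫ T.hom = Spec.map _ ≫ T.hom
    exact (Category.assoc _ _ _).symm.trans (congrArg (· ≫ T.hom) hs₀))
  have hs : s ≫ ovrHom T (U i) = c := Over.OverMorphism.ext hs₀
  obtain ⟨L₀, M₀, hL₀, hM₀⟩ := hc i
  have hL := hL₀.pull hP s
  have hM := hM₀.pull hP s
  rw [← Category.assoc, hs] at hL hM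
  let K := FractionRing B
  let TK : Over S := Over.mk (genMap B K ≫ TB.hom)
  let gB : TK ⟶ TB := Over.homMk (genMap B K) rfl
  obtain ⟨k, hk⟩ := exists_genMap_factor (B := B) (FractionRing A) K χ
    ((IsFractionRing.injective B K).comp hχi)
  have hKeq : gB ≫ c ≫ a₁ = gB ≫ c ≫ a₂ := by
    refine Over.OverMorphism.ext ?_
    show genMap B K ≫ Spec.map (CommRingCat.ofHom χ) ≫ l₁ = genMap B K ≫ Spec.map (CommRingCat.ofHom χ) ≫ l₂
    rw [reassoc_of% hk, reassoc_of% hk]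
    exact congrArg (k ≫ ·) hgen
  obtain ⟨κ, V, hV, hiso⟩ := hP.locallyInjective TK _ _ ⟨_, rfl, (hL.pull hP gB).1⟩ ⟨_, rfl, (hM.pull hP gB).1⟩
    ((hL.pull hP gB).2.trans (hKeq.trans (hM.pull hP gB).2.symm))
  obtain ⟨B', _, _, _, _, L', _, _, _, ψ, hψl, hψi, v, t₀, ht₀⟩ :=
    exists_generic_chart (A := B) (K := K) (genMap B K ≫ TB.hom) V hV
  let T' : Over S := Over.mk (Spec.map (CommRingCat.ofHom ψ) ≫ TB.hom)
  let c' : T' ⟶ TB := Over.homMk (Spec.map (CommRingCat.ofHom ψ)) rfl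
  let TL : Over S := Over.mk (genMap B' L' ≫ T'.hom)
  let gL : TL ⟶ T' := Over.homMk (genMap B' L') rfl
  let t : TL ⟶ ovr TK (V v) := Over.homMk t₀ (by
    show t₀ ≫ (V v).hom ≫ genMap B K ≫ TB.hom = genMap B' L' ≫ Spec.map _ ≫ TB.hom
    simpa only [Category.assoc] using congrArg (· ≫ TB.hom) ht₀)
  have ht : t ≫ ovrHom TK (V v) ≫ gB = gL ≫ c' := Over.OverMorphism.ext ht₀
  have hL' := hL.pull hP c'
  have hM' := hM.pull hP c'
  have e1 : Nonempty (pb (PicF.XTmap f gL) (pb (PicF.XTmap f c') (pb (PicF.XTmap f s) L₀)) ≅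
      pb (PicF.XTmap f gL) (pb (PicF.XTmap f c') (pb (PicF.XTmap f s) M₀))) := by
    obtain ⟨e⟩ := cl_eq_iff.1 (hiso v)
    have hcomp : PicF.XTmap f gL ≫ PicF.XTmap f c' =
        (PicF.XTmap f t ≫ PicF.XTmap f (ovrHom TK (V v))) ≫ PicF.XTmap f gB := by
      rw [← PicGrp.XTmap_comp, ← PicGrp.XTmap_comp, ← PicGrp.XTmap_comp, Category.assoc, ht]
    refine ⟨(Scheme.Modules.pullbackComp _ _).app _ ≪≫ (Scheme.Modules.pullbackCongr hcomp).app _ ≪≫ ?_ ≪≫
      (Scheme.Modules.pullbackCongr hcomp).symm.app _ ≪≫ ((Scheme.Modules.pullbackComp _ _).app _).symm⟩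
    exact ((Scheme.Modules.pullbackComp _ _).app _).symm ≪≫
      ((Scheme.Modules.pullbackComp (PicF.XTmap f t) (PicF.XTmap f (ovrHom TK (V v)))).app _).symm ≪≫
      (Scheme.Modules.pullback (PicF.XTmap f t)).mapIso e ≪≫
      (Scheme.Modules.pullbackComp _ _).app _ ≪≫ (Scheme.Modules.pullbackComp _ _).app _
  have hpb := isPullback_XTmap (f := f) T' TL gL
  haveI : IsOpenImmersion (PicF.XTmap f gL) :=
    MorphismProperty.of_isPullback hpb.flip (show IsOpenImmersion gL.left from isOpenImmersion_genMap B' L')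
  haveI : IsProper (pullback.snd f T'.hom) := MorphismProperty.pullback_snd _ _ ‹IsProper f›
  haveI : Smooth (pullback.snd f T'.hom) := MorphismProperty.pullback_snd _ _ ‹Smooth f›
  obtain ⟨e⟩ := iso_of_generic (R := B') (pullback.snd f T'.hom) (PicF.XTmap f gL) (by
    refine subset_trans ?_ (range_subset_of_isPullback hpb)
    exact Set.preimage_mono (range_genMap B' L').ge) hL'.1 hM'.1 e1
  have heq : c' ≫ c ≫ a₁ = c' ≫ c ≫ a₂ :=
    hL'.2.symm.trans ((congrArg (φ T') (cl_eq_iff.2 ⟨e⟩)).trans hM'.2)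
  haveI := hχl
  haveI := hψl
  exact eq_of_dominating χ hχi (eq_of_dominating ψ hψi (congrArg CommaMorphism.left heq))

theorem isSeparated_of_isRelPic [IsLocallyNoetherian S] [IsProper f] [Smooth f] (hP : IsRelPic f P φ) :
    IsSeparated P.hom := by
  haveI : LocallyOfFiniteType P.hom := locallyOfFiniteType hP
  exact DvrDomLib.isSeparated_of_dvrUniqueness _ (dvrUniqueness_of_isRelPic hP)

end PicRepLib
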