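import Groth.Agent.H0Lib.Apply
import Groth.Agent.AlgSpLib.ReducedSmooth
import Groth.Agent.QuotSchLib.DvrExt
import Groth.Agent.BlowUpLib.RegBlow
import Groth.Agent.S0234
import Groth.Agent.S2821
import Groth.Agent.S12404
import Groth.Agent.S1535

/-!
# Extending points of the Picard scheme over discrete valuation rings
-/

set_option autoImplicit false
set_option linter.style.haveILetI false
universe u

open CategoryTheory CategoryTheory.Limits AlgebraicGeometry
open KFlatLib (pb)

noncomputable section

namespace PicRepLib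

/-- Smooth morphisms are geometrically reduced. -/
theorem geometricallyReduced_of_smooth {X S : Scheme.{u}} (f : X ⟶ S) [Smooth f] : GeometricallyReduced f := by
  refine ⟨fun K _ y Y fst snd h => ?_⟩
  haveI : Smooth snd := MorphismProperty.of_isPullback h ‹Smooth f›
  exact AlgSpLib.isReduced_of_smooth snd

/-- Line bundles extend from the generic fibre of a smooth scheme over a discrete valuation ring. -/
theorem exists_extension {R : Type u} [CommRing R] [IsDomain R] [IsDiscreteValuationRing R] {Y YK : Scheme.{u}}
    (g : Y ⟶ Spec (CommRingCat.of R)) [Smooth g] (t : YK ⟶ Y) [IsOpenImmersion t] {N : YK.Modules}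
    (hN : PicF.IsInvertible N) : ∃ L : Y.Modules, PicF.IsInvertible L ∧ Nonempty (pb t L ≅ N) := by
  haveI : IsLocallyNoetherian Y := LocallyOfFiniteType.isLocallyNoetherian g
  haveI hdom : ∀ x : Y, IsRegularLocalRing (Y.presheaf.stalk x) := fun x => by
    haveI : IsRegularLocalRing R := inferInstance
    haveI : IsRegularLocalRing ((Spec (CommRingCat.of R)).presheaf.stalk (g x)) := by
      let p : PrimeSpectrum R := g x
      haveI : IsDomain R := ‹IsDomain R›
      haveI : IsRegularLocalRing (Localization.AtPrime p.asIdeal) := inferInstance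
      exact IsRegularLocalRing.of_ringEquiv
        (StructureSheaf.stalkIso (CommRingCat.of R) p).toRingEquiv
    exact BlowUpLib.isRegularLocalRing_stalk_of_smooth g x
  let U := t.opensRange
  let e : YK ≅ (U : Scheme.{u}) := (IsOpenImmersion.isoOfRangeEq t U.ι (by simp [U, Scheme.Hom.coe_opensRange]))
  have he : e.hom ≫ U.ι = t := IsOpenImmersion.isoOfRangeEq_hom_fac _ _ _
  obtain ⟨L, hL, ⟨i⟩⟩ := Groth.Agent.S0234.result Y U (pb e.inv N) (AmpleDevLib.isInvertible_pb _ hN)
    fun x _ => (@Groth.Agent.S2821.result _ _ (hdom x)).2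
  refine ⟨L, hL, ⟨(Scheme.Modules.pullbackCongr he).symm.app L ≪≫ ((Scheme.Modules.pullbackComp _ _).app L).symm ≪≫
    (Scheme.Modules.pullback e.hom).mapIso ((Scheme.Modules.restrictFunctorIsoPullback U.ι).symm.app L ≪≫ i) ≪≫
    (Scheme.Modules.pullbackComp _ _).app N ≪≫ (Scheme.Modules.pullbackCongr e.hom_inv_id).app N ≪≫
    (Scheme.Modules.pullbackId _).app N⟩⟩

end PicRepLib
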