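import Groth.Agent.H0Lib.Apply
import Groth.Agent.ParaFLib.Local
import Groth.Agent.CubeConsLib.IsoCls
import Groth.Agent.ProperConnLib.Henselian
import Groth.Agent.ProperConnLib.Core
import Groth.Agent.TwistLib.CoordGen
import Groth.Agent.S2280
import Groth.Agent.S8883
import Groth.Agent.S7791
import Groth.Agent.PicRepLib.Extend
import Groth.Agent.FinEtNeronLib.Main

/-!
# Line bundles trivial on the generic fibre of a smooth proper scheme over a henselian discrete valuation ring
-/

set_option autoImplicit false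
set_option linter.style.haveILetI false
set_option maxHeartbeats 1000000
universe u

open CategoryTheory CategoryTheory.Limits AlgebraicGeometry TopologicalSpace Opposite
open KFlatLib (pb)
open AmpleLib (GenAt GenOn)

noncomputable section

namespace PicRepLib

/-- There is only one section over the empty open. -/
theorem subsingleton_bot {X : Scheme.{u}} (M : X.Modules) {U : X.Opens} (hU : U = ⊥) :
    Subsingleton Γ(M, U) := by
  subst hU
  exact ⟨fun s t => TopCat.Sheaf.eq_of_locally_eq' (F := ⟨M.presheaf, M.isSheaf⟩)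
    (fun i : PEmpty.{u + 1} => i.elim) ⊥ (fun i => i.elim) bot_le s t fun i => i.elim⟩

/-- A module trivial on the pieces of a disjoint open covering is trivial. -/
theorem iso_structure_of_cover {Y : Scheme.{u}} {ι : Type u} (D : ι → Y.Opens) (hcov : ∀ y : Y, ∃ a, y ∈ D a)
    (hdis : ∀ a b, a ≠ b → D a ⊓ D b = ⊥) (M : Y.Modules)
    (h : ∀ a, Nonempty (M.restrict (D a).ι ≅ Coh.structureModule (D a : Scheme.{u}))) :
    Nonempty (M ≅ Coh.structureModule Y) := by
  choose σ hσ using fun a => ParaFLib.exists_genOn_of_iso (h a).some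
  obtain ⟨s, hs, -⟩ := TopCat.Sheaf.existsUnique_gluing' (F := ⟨M.presheaf, M.isSheaf⟩) D ⊤
    (fun a => homOfLE le_top) (fun y _ => Opens.mem_iSup.mpr (hcov y)) σ (by
      intro a b
      rcases eq_or_ne a b with rfl | hab
      · rfl
      · have : Subsingleton Γ(M, D a ⊓ D b) := subsingleton_bot M (hdis a b hab)
        exact Subsingleton.elim (α := Γ(M, D a ⊓ D b)) _ _)
  have hgen : GenOn M s := TwistLib.genOn_of_genAt fun y hy => by
    obtain ⟨a, ha⟩ := hcov y
    rw [← AmpleLib.genAt_res (le_top : D a ≤ ⊤) s ha]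
    rw [show AmpleLib.res M le_top s = σ a from hs a]
    exact (hσ a).genAt ha
  exact ⟨(@asIso _ _ _ _ _ (AmpleLib.isIso_unitHom s hgen)).symm⟩

/-- A regular connected scheme smooth over a discrete valuation ring is integral. -/
theorem isIntegral_of_smooth_dvr {R : Type u} [CommRing R] [IsDomain R] [IsDiscreteValuationRing R] {U : Scheme.{u}}
    (g : U ⟶ Spec (CommRingCat.of R)) [Smooth g] [ConnectedSpace U] : IsIntegral U := by
  haveI : IsLocallyNoetherian U := LocallyOfFiniteType.isLocallyNoetherian g
  refine (Groth.Agent.S2280.result U).2.mpr ⟨inferInstance, fun x => ?_⟩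
  haveI : IsRegularLocalRing ((Spec (CommRingCat.of R)).presheaf.stalk (g x)) := by
    let p : PrimeSpectrum R := g x
    haveI : IsDomain R := ‹IsDomain R›
    haveI : IsRegularLocalRing R := inferInstance
    haveI : IsRegularLocalRing (Localization.AtPrime p.asIdeal) := inferInstance
    exact IsRegularLocalRing.of_ringEquiv (StructureSheaf.stalkIso (CommRingCat.of R) p).toRingEquiv
  haveI := BlowUpLib.isRegularLocalRing_stalk_of_smooth g x
  exact CommAlgDim.isDomain_of_isRegularLocalRing _

/-- Invertible modules on the spectrum of a local ring are trivial. -/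
theorem iso_structure_of_local {A : Type u} [CommRing A] [IsLocalRing A] {N : (Spec (CommRingCat.of A)).Modules}
    (hN : PicF.IsInvertible N) : Nonempty (N ≅ Coh.structureModule (Spec (CommRingCat.of A))) := by
  obtain ⟨V, hV, ⟨e⟩⟩ := hN (IsLocalRing.closedPoint A)
  obtain rfl := ParaFLib.eq_top_of_closedPoint_mem A hV
  obtain ⟨σ, hσ⟩ := ParaFLib.exists_genOn_of_iso e
  exact ⟨(@asIso _ _ _ _ _ (AmpleLib.isIso_unitHom σ hσ)).symm⟩

variable {R : Type u} [CommRing R] [IsDomain R] [IsDiscreteValuationRing R]

/-- The spectrum of a discrete valuation ring has two points. -/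
theorem eq_genericPoint_or_closedPoint (y : Spec (CommRingCat.of R)) :
    y = genericPoint (Spec (CommRingCat.of R)) ∨ y = IsLocalRing.closedPoint R := by
  rw [genericPoint_eq_bot_of_affine]
  by_cases h : y.asIdeal = ⊥
  · exact .inl (PrimeSpectrum.ext h)
  · exact .inr (PrimeSpectrum.ext (IsLocalRing.eq_maximalIdeal (Ideal.IsPrime.isMaximal y.isPrime h)))

/-- The connected case. -/
theorem trivial_of_generic_connected [HenselianLocalRing R] {U : Scheme.{u}}
    (g : U ⟶ Spec (CommRingCat.of R)) [IsProper g] [Smooth g] [ConnectedSpace U] {L : U.Modules}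
    (hL : PicF.IsInvertible L)
    (hgen : Nonempty (pb (g.fiberι (genericPoint (Spec (CommRingCat.of R)))) L ≅
      Coh.structureModule (g.fiber (genericPoint (Spec (CommRingCat.of R)))))) :
    Nonempty (L ≅ Coh.structureModule U) := by
  haveI : IsLocallyNoetherian U := LocallyOfFiniteType.isLocallyNoetherian g
  haveI : IsIntegral U := isIntegral_of_smooth_dvr g
  have hclosed : ConnectedSpace ↥(g ⁻¹' {IsLocalRing.closedPoint R}) := by
    haveI : Nonempty ↥(g ⁻¹' {IsLocalRing.closedPoint R}) := by
      obtain ⟨u⟩ : Nonempty U := inferInstance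
      obtain ⟨v, -, hv⟩ := g.isClosedMap.specializingMap (show g u ⤳ IsLocalRing.closedPoint R from
        IsLocalRing.specializes_closedPoint (R := R) _)
      exact ⟨⟨v, hv⟩⟩
    rw [connectedSpace_iff_clopen]
    refine ⟨inferInstance, fun V hV => ?_⟩
    obtain ⟨W, hW, hWV⟩ := ProperConnLib.exists_clopen_lift_closedPoint g V hV
    rcases isClopen_iff.mp hW with h | h
    · exact .inl (by rw [← hWV, h, Set.preimage_empty])
    · exact .inr (by rw [← hWV, h, Set.preimage_univ])
  have hfib : ∀ y : Spec (CommRingCat.of R), IsIntegral (g.fiber y) := fun y => by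
    haveI : Smooth (g.fiberToSpecResidueField y) := MorphismProperty.pullback_snd _ _ ‹Smooth g›
    haveI : ConnectedSpace ↥(g ⁻¹' {y}) := by
      by_cases hy : y = IsLocalRing.closedPoint R
      · exact hy ▸ hclosed
      have hy' : y = genericPoint (Spec (CommRingCat.of R)) := by
        exact (eq_genericPoint_or_closedPoint y).resolve_right hy
      have hgen' : g (genericPoint U) = y := by
        rw [hy']
        obtain ⟨z, hz, hzy⟩ := Flat.generalizingMap g (genericPoint_specializes (g (genericPoint U)))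
        rw [← hzy, ((genericPoint_specializes z).antisymm hz).eq]
      refine isConnected_iff_connectedSpace.mp ?_
      refine IsConnected.subset_closure (s := {genericPoint U}) isConnected_singleton
        (Set.singleton_subset_iff.mpr hgen') ?_
      intro z _
      rw [(genericPoint_spec U)]
      trivial
    haveI : ConnectedSpace ↥(g.fiber y) :=
      (g.fiberHomeo y).symm.surjective.connectedSpace (g.fiberHomeo y).symm.continuous
    exact @Groth.Agent.S7791.isIntegral_of_smooth_connected ((Spec (CommRingCat.of R)).residueField y) _ (g.fiber y)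
      (g.fiberToSpecResidueField y) ‹_› ‹_›
  obtain ⟨N, hN, ⟨e⟩⟩ := Groth.Agent.S8883.result g (FinEtNeronLib.isNormalScheme_spec R (fun p hp => ⟨inferInstance, inferInstance⟩)) hfib (.inl inferInstance) L hL hgen
  obtain ⟨eN⟩ := iso_structure_of_local hN
  exact ⟨e ≪≫ (Scheme.Modules.pullback g).mapIso eN ≪≫ KFlatLib.pullUnitIso g⟩

/-- An invertible module which is trivial on the generic fibre is trivial. -/
theorem trivial_of_generic [HenselianLocalRing R] {Y YK : Scheme.{u}} (g : Y ⟶ Spec (CommRingCat.of R)) [IsProper g]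
    [Smooth g] (t : YK ⟶ Y) [IsOpenImmersion t]
    (hrange : g ⁻¹' {genericPoint (Spec (CommRingCat.of R))} ⊆ Set.range t)
    {L : Y.Modules} (hL : PicF.IsInvertible L) (hgen : Nonempty (pb t L ≅ Coh.structureModule YK)) :
    Nonempty (L ≅ Coh.structureModule Y) := by
  haveI : IsLocallyNoetherian Y := LocallyOfFiniteType.isLocallyNoetherian g
  haveI := ProperConnLib.locallyConnectedSpace Y
  let ι := _root_.ConnectedComponents Y
  let D : ι → Y.Opens := fun c => ⟨connectedComponent (Function.surjInv ConnectedComponents.surjective_coe c),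
    isOpen_connectedComponent⟩
  have hmem : ∀ c y, y ∈ D c ↔ ConnectedComponents.mk y = c := fun c y => by
    show y ∈ connectedComponent _ ↔ _
    rw [← ConnectedComponents.coe_eq_coe', Function.surjInv_eq ConnectedComponents.surjective_coe c]
  refine iso_structure_of_cover D (fun y => ⟨_, (hmem _ y).2 rfl⟩) (fun a b hab => ?_) L fun c => ?_
  · refine eq_bot_iff.2 fun y hy => (hab ?_).elim
    exact ((hmem a y).1 hy.1).symm.trans ((hmem b y).1 hy.2)
  let U : Scheme.{u} := D c
  haveI : ConnectedSpace U := isConnected_iff_connectedSpace.mp isConnected_connectedComponent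
  haveI : IsClosedImmersion (D c).ι := IsClosedImmersion.of_isPreimmersion _ (by
    rw [Scheme.Opens.range_ι]; exact isClosed_connectedComponent)
  let h : U ⟶ Spec (CommRingCat.of R) := (D c).ι ≫ g
  let η : Spec (CommRingCat.of R) := genericPoint (Spec (CommRingCat.of R))
  have hsub : Set.range (h.fiberι η ≫ (D c).ι) ⊆ Set.range t := by
    rintro _ ⟨z, rfl⟩
    refine hrange ?_
    have : h.fiberι η z ∈ h ⁻¹' {η} := h.range_fiberι η ▸ ⟨z, rfl⟩
    rw [Set.mem_preimage, Scheme.Hom.comp_apply]
    exact this
  let w := IsOpenImmersion.lift t _ hsub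
  have hw : w ≫ t = h.fiberι η ≫ (D c).ι := IsOpenImmersion.lift_fac _ _ _
  obtain ⟨i⟩ := hgen
  obtain ⟨e⟩ := trivial_of_generic_connected h (AmpleDevLib.isInvertible_pb (D c).ι hL)
    ⟨(Scheme.Modules.pullbackComp _ _).app L ≪≫ (Scheme.Modules.pullbackCongr hw.symm).app L ≪≫
      ((Scheme.Modules.pullbackComp _ _).app L).symm ≪≫ (Scheme.Modules.pullback w).mapIso i ≪≫
      KFlatLib.pullUnitIso w⟩
  exact ⟨(Scheme.Modules.restrictFunctorIsoPullback (D c).ι).app L ≪≫ e⟩

/-- Invertible modules isomorphic on the generic fibre are isomorphic. -/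
theorem iso_of_generic [HenselianLocalRing R] {Y YK : Scheme.{u}} (g : Y ⟶ Spec (CommRingCat.of R)) [IsProper g]
    [Smooth g] (t : YK ⟶ Y) [IsOpenImmersion t]
    (hrange : g ⁻¹' {genericPoint (Spec (CommRingCat.of R))} ⊆ Set.range t)
    {L M : Y.Modules} (hL : PicF.IsInvertible L) (hM : PicF.IsInvertible M)
    (hgen : Nonempty (pb t L ≅ pb t M)) : Nonempty (L ≅ M) := by
  rw [← CubeConsLib.cl_eq_iff]
  obtain ⟨e⟩ := trivial_of_generic g t hrange (L := CohB1.tensorMod L (MiscFlat6.dual M))
    (CubeConsLib.isInvertible_tensor_dual hL hM) (by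
      rw [← CubeConsLib.cl_eq_one_iff, ← CubeConsLib.pull_cl, CubeConsLib.cl_tensor, map_mul,
        show CubeConsLib.pull t (CubeConsLib.cl L) = CubeConsLib.pull t (CubeConsLib.cl M) from
          CubeConsLib.cl_eq_iff.2 hgen, ← map_mul, ← CubeConsLib.cl_tensor,
        CubeConsLib.cl_eq_one_iff.2 (MiscFlat6.nonempty_dualIso hM), map_one])
  have h1 : CubeConsLib.cl L * CubeConsLib.cl (MiscFlat6.dual M) = 1 := CubeConsLib.cl_eq_one_iff.2 ⟨e⟩
  have h2 : CubeConsLib.cl M * CubeConsLib.cl (MiscFlat6.dual M) = 1 :=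
    CubeConsLib.cl_eq_one_iff.2 (MiscFlat6.nonempty_dualIso hM)
  calc CubeConsLib.cl L = CubeConsLib.cl L * (CubeConsLib.cl M * CubeConsLib.cl (MiscFlat6.dual M)) := by
        rw [h2, mul_one]
    _ = CubeConsLib.cl M * (CubeConsLib.cl L * CubeConsLib.cl (MiscFlat6.dual M)) := mul_left_comm _ _ _
    _ = CubeConsLib.cl M := by rw [h1, mul_one]

end PicRepLib
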