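import Groth.Agent.AlgSpLib.EtaleAlgLift
import Groth.Prelude.Def_EtBase

/-!
# Refining étale coverings along square zero thickenings of affine schemes
-/

set_option autoImplicit false
set_option linter.style.haveILetI false
universe u

open CategoryTheory CategoryTheory.Limits AlgebraicGeometry

noncomputable section

namespace PicRepLib

/-- An affine refinement of an étale covering near a point. -/
theorem cover_nhd {B : Type u} [CommRing B] {ι : Type u} (V : ι → (Spec (CommRingCat.of B)).Etale)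
    (hV : EtCoh.Covers V) (Q : PrimeSpectrum B) :
    ∃ (B' : Type u) (_ : CommRing B') (χ : B →+* B'), χ.Etale ∧ ∃ (Q' : PrimeSpectrum B'), Q'.comap χ = Q ∧
      ∃ (k : ι) (h : Spec (CommRingCat.of B') ⟶ (V k).left), h ≫ (V k).hom = Spec.map (CommRingCat.ofHom χ) := by
  obtain ⟨k, y, hy⟩ := hV Q
  obtain ⟨j, z, hz⟩ := (V k).left.affineOpenCover.openCover.exists_eq y
  obtain ⟨C, c, hc, z, hz⟩ : ∃ (C : CommRingCat.{u}) (c : Spec C ⟶ (V k).left), IsOpenImmersion c ∧
      ∃ z, c z = y := ⟨_, (V k).left.affineOpenCover.f j, inferInstance, z, hz⟩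
  haveI : Etale (V k).hom := (V k).prop
  haveI := hc
  obtain ⟨χ, hχ⟩ := Spec.map_surjective (c ≫ (V k).hom)
  haveI : Etale (Spec.map χ) := by rw [hχ]; infer_instance
  refine ⟨C, inferInstance, χ.hom, (HasRingHomProperty.Spec_iff (P := @Etale)).1 inferInstance, z, ?_, k, c, ?_⟩
  · show (Spec.map χ) z = Q
    rw [hχ, Scheme.Hom.comp_apply, hz]
    exact hy
  · exact hχ.symm

/-- An étale covering of the closed subscheme lifts near a point. -/
theorem cover_lift {B : Type u} [CommRing B] (J : Ideal B) (hJ : J ^ 2 = ⊥) {ι : Type u}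
    (U : ι → (Spec (CommRingCat.of (B ⧸ J))).Etale) (hU : EtCoh.Covers U) (Q : PrimeSpectrum B) :
    ∃ (B' : Type u) (_ : CommRing B') (χ : B →+* B') (J' : Ideal B') (hle : J ≤ J'.comap χ),
      χ.Etale ∧ J' ^ 2 = ⊥ ∧ ∃ (Q' : PrimeSpectrum B'), Q'.comap χ = Q ∧
      ∃ (i : ι) (h : Spec (CommRingCat.of (B' ⧸ J')) ⟶ (U i).left),
        h ≫ (U i).hom = Spec.map (CommRingCat.ofHom (Ideal.quotientMap J' χ hle)) := by
  have hle : J ≤ Q.asIdeal := fun x hx =>
    Q.2.mem_of_pow_mem 2 (by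
      have : x ^ 2 ∈ J ^ 2 := Ideal.pow_mem_pow hx 2
      rw [hJ, Ideal.mem_bot] at this
      rw [this]
      exact Q.asIdeal.zero_mem)
  obtain ⟨q₀, hq₀⟩ : Q ∈ Set.range (PrimeSpectrum.comap (Ideal.Quotient.mk J)) := by
    rw [range_comap_of_surjective _ _ Ideal.Quotient.mk_surjective]
    rw [Ideal.mk_ker, PrimeSpectrum.mem_zeroLocus]
    exact hle
  obtain ⟨C, _, χ₀, hχ₀, q, hq, i, h, hh⟩ := cover_nhd U hU q₀
  letI := χ₀.toAlgebra
  haveI : Algebra.Etale (B ⧸ J) C := hχ₀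
  obtain ⟨B', _, χ, ψ, hχ, hψ, Q', hQ'⟩ := AlgSpLib.exists_etale_lift_near J hJ q
  refine ⟨B', inferInstance, χ, J.map χ, Ideal.le_comap_map, hχ, by rw [← Ideal.map_pow, hJ, Ideal.map_bot], Q', ?_,
    i, Spec.map (CommRingCat.ofHom ψ) ≫ h, ?_⟩
  · rw [hQ', PrimeSpectrum.comap_comp_apply]
    exact (congrArg (PrimeSpectrum.comap (Ideal.Quotient.mk J)) hq).trans hq₀
  · rw [Category.assoc, hh, ← Spec.map_comp, ← CommRingCat.ofHom_comp]
    exact congrArg (fun r => Spec.map (CommRingCat.ofHom r)) hψ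

end PicRepLib
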