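import Groth.Prelude.Def_PicRel2
import Mathlib.AlgebraicGeometry.Sites.Fpqc

/-!
# Gluing morphisms along étale coverings
-/

set_option autoImplicit false
set_option linter.style.haveILetI false
universe u

open CategoryTheory CategoryTheory.Limits AlgebraicGeometry TopologicalSpace Opposite
open PicRel (ovr ovrHom)

noncomputable section

namespace PicRepLib

variable {S : Scheme.{u}} {T P : Over S} {ι : Type u} (U : ι → T.left.Etale)

/-- The total map of a family. -/
def total : (∐ fun i => (U i).left) ⟶ T.left := Sigma.desc fun i => (U i).hom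

theorem total_props (hU : EtCoh.Covers U) :
    Flat (total U) ∧ LocallyOfFinitePresentation (total U) ∧ Surjective (total U) := by
  have he : ∀ i, Etale (U i).hom := fun i => (U i).prop
  refine ⟨IsZariskiLocalAtSource.sigmaDesc (P := @Flat) fun i => by haveI := he i; infer_instance,
    IsZariskiLocalAtSource.sigmaDesc (P := @LocallyOfFinitePresentation) fun i => by haveI := he i; infer_instance,
    ⟨fun x => ?_⟩⟩
  obtain ⟨i, y, hy⟩ := hU x
  refine ⟨(Sigma.ι (fun i => (U i).left) i) y, ?_⟩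
  rw [total, ← Scheme.Hom.comp_apply, Sigma.ι_desc]
  exact hy

/-- Morphisms agreeing on an étale covering are equal. -/
theorem cover_ext (hU : EtCoh.Covers U) {g h : T ⟶ P} (H : ∀ i, ovrHom T (U i) ≫ g = ovrHom T (U i) ≫ h) :
    g = h := by
  obtain ⟨h1, h2, h3⟩ := total_props U hU
  haveI := h1; haveI := h2; haveI := h3
  refine Over.OverMorphism.ext ((cancel_epi (total U)).1 (Sigma.hom_ext _ _ fun i => ?_))
  simpa [total] using congrArg CommaMorphism.left (H i)

/-- Morphisms on the members of an étale covering agreeing on overlaps glue. -/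
theorem exists_glue (hU : EtCoh.Covers U) (a : ∀ i, ovr T (U i) ⟶ P)
    (H : ∀ (i j : ι) (Z : Over S) (p : Z ⟶ ovr T (U i)) (q : Z ⟶ ovr T (U j)),
      p ≫ ovrHom T (U i) = q ≫ ovrHom T (U j) → p ≫ a i = q ≫ a j) :
    ∃ g : T ⟶ P, ∀ i, ovrHom T (U i) ≫ g = a i := by
  obtain ⟨h1, h2, h3⟩ := total_props U hU
  haveI := h1; haveI := h2; haveI := h3
  let A : (∐ fun i => (U i).left) ⟶ P.left := Sigma.desc fun i => (a i).left
  have hA : ∀ {Z : Scheme.{u}} (g₁ g₂ : Z ⟶ ∐ fun i => (U i).left),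
      g₁ ≫ total U = g₂ ≫ total U → g₁ ≫ A = g₂ ≫ A := by
    intro Z g₁ g₂ hg
    let O : ι × ι → Z.Opens := fun ij =>
      g₁ ⁻¹ᵁ (Sigma.ι (fun i => (U i).left) ij.1).opensRange ⊓
        g₂ ⁻¹ᵁ (Sigma.ι (fun i => (U i).left) ij.2).opensRange
    have hsup : ⨆ ij, O ij = ⊤ := eq_top_iff.2 fun z _ => by
      obtain ⟨i, y, hy⟩ := (Scheme.IsLocallyDirected.openCover (Discrete.functor fun i => (U i).left)).exists_eq (g₁ z)
      obtain ⟨j, w, hw⟩ := (Scheme.IsLocallyDirected.openCover (Discrete.functor fun i => (U i).left)).exists_eq (g₂ z)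
      exact Opens.mem_iSup.2 ⟨(i.as, j.as), ⟨y, hy⟩, ⟨w, hw⟩⟩
    refine (Scheme.openCoverOfIsOpenCover Z O hsup).hom_ext _ _ fun ⟨i, j⟩ => ?_
    let p := IsOpenImmersion.lift (Sigma.ι (fun i => (U i).left) i) ((O (i, j)).ι ≫ g₁) (by
      rintro _ ⟨z, rfl⟩; exact z.2.1)
    let q := IsOpenImmersion.lift (Sigma.ι (fun i => (U i).left) j) ((O (i, j)).ι ≫ g₂) (by
      rintro _ ⟨z, rfl⟩; exact z.2.2)
    have hp : p ≫ Sigma.ι (fun i => (U i).left) i = (O (i, j)).ι ≫ g₁ := IsOpenImmersion.lift_fac _ _ _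
    have hq : q ≫ Sigma.ι (fun i => (U i).left) j = (O (i, j)).ι ≫ g₂ := IsOpenImmersion.lift_fac _ _ _
    have hpq : p ≫ (U i).hom = q ≫ (U j).hom := by
      have := (O (i, j)).ι ≫= hg
      rw [← Category.assoc, ← Category.assoc, ← hp, ← hq] at this
      simpa [total] using this
    have := congrArg CommaMorphism.left (H i j (Over.mk (p ≫ (U i).hom ≫ T.hom)) (Over.homMk p rfl)
      (Over.homMk q (show q ≫ (U j).hom ≫ T.hom = p ≫ (U i).hom ≫ T.hom by rw [← Category.assoc, ← hpq, Category.assoc]))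
      (Over.OverMorphism.ext hpq))
    show (O (i, j)).ι ≫ g₁ ≫ A = (O (i, j)).ι ≫ g₂ ≫ A
    rw [← Category.assoc, ← Category.assoc, ← hp, ← hq]
    simpa [A] using this
  refine ⟨Over.homMk (EffectiveEpi.desc (total U) A hA) ?_, fun i => Over.OverMorphism.ext ?_⟩
  · rw [← cancel_epi (total U), ← Category.assoc, EffectiveEpi.fac]
    refine Sigma.hom_ext _ _ fun i => ?_
    simp [A, total]
  · have : Sigma.ι (fun i => (U i).left) i ≫ total U ≫ EffectiveEpi.desc (total U) A hA = (a i).left := by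
      rw [EffectiveEpi.fac]
      simp [A]
    simpa [total] using this

end PicRepLib

end
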