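import Groth.Agent.PicRepLib.CompDesc
import Groth.Agent.PicRepLib.DvrTriv
import Groth.Agent.GrpdFieldLib.ClosedSub
import Groth.Agent.S2501
import Groth.Agent.S7819
import Mathlib.AlgebraicGeometry.AlgClosed.Basic

/-!
# Morphisms from rational curves to the Picard scheme of a normal proper scheme are constant
-/

set_option autoImplicit false
set_option linter.style.haveILetI false
set_option backward.isDefEq.respectTransparency false
set_option maxHeartbeats 1000000
universe u

open CategoryTheory CategoryTheory.Limits AlgebraicGeometry TopologicalSpace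
open PicRel (IsRelPic)
open KFlatLib (pb)

noncomputable section

namespace PicRepLib

variable {K : Type u} [Field K] [IsAlgClosed K] {X : Scheme.{u}}

/-- Invertible modules isomorphic on every connected component are isomorphic. -/
theorem iso_of_components [IsLocallyNoetherian X] {L M : X.Modules} (hL : PicF.IsInvertible L) (hM : PicF.IsInvertible M)
    (h : ∀ (U : X.Opens), ConnectedSpace U.toScheme → IsClosed (U : Set X) → Nonempty (pb U.ι L ≅ pb U.ι M)) :
    Nonempty (L ≅ M) := by
  haveI := ProperConnLib.locallyConnectedSpace X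
  let ι := _root_.ConnectedComponents X
  let D : ι → X.Opens := fun c => ⟨connectedComponent (Function.surjInv ConnectedComponents.surjective_coe c),
    isOpen_connectedComponent⟩
  have hmem : ∀ c y, y ∈ D c ↔ ConnectedComponents.mk y = c := fun c y => by
    show y ∈ connectedComponent _ ↔ _
    rw [← ConnectedComponents.coe_eq_coe', Function.surjInv_eq ConnectedComponents.surjective_coe c]
  obtain ⟨e⟩ := iso_structure_of_cover D (fun y => ⟨_, (hmem _ y).2 rfl⟩) (fun a b hab => by
      refine eq_bot_iff.2 fun y hy => (hab ?_).elim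
      exact ((hmem a y).1 hy.1).symm.trans ((hmem b y).1 hy.2))
    (CohB1.tensorMod L (MiscFlat6.dual M)) fun c => by
      obtain ⟨e⟩ := h (D c) (isConnected_iff_connectedSpace.mp isConnected_connectedComponent) isClosed_connectedComponent
      refine ⟨(Scheme.Modules.restrictFunctorIsoPullback (D c).ι).app _ ≪≫ Classical.choice ?_⟩
      rw [← CubeConsLib.cl_eq_one_iff, ← CubeConsLib.pull_cl, CubeConsLib.cl_tensor, map_mul,
        show CubeConsLib.pull (D c).ι (CubeConsLib.cl L) = CubeConsLib.pull (D c).ι (CubeConsLib.cl M) from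
          CubeConsLib.cl_eq_iff.2 ⟨e⟩, ← map_mul, ← CubeConsLib.cl_tensor,
        CubeConsLib.cl_eq_one_iff.2 (MiscFlat6.nonempty_dualIso hM), map_one]
  have h1 : CubeConsLib.cl L * CubeConsLib.cl (MiscFlat6.dual M) = 1 := CubeConsLib.cl_eq_one_iff.2 ⟨e⟩
  have h2 : CubeConsLib.cl M * CubeConsLib.cl (MiscFlat6.dual M) = 1 :=
    CubeConsLib.cl_eq_one_iff.2 (MiscFlat6.nonempty_dualIso hM)
  rw [mul_comm] at h2
  exact CubeConsLib.cl_eq_iff.1 (left_inv_eq_right_inv (by rwa [mul_comm] at h1 ⊢) h2)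

/-- Open subschemes of normal schemes are normal. -/
theorem isNormalScheme_open (hX : Pi1.IsNormalScheme X) (U : X.Opens) : Pi1.IsNormalScheme U.toScheme := fun x => by
  let e := (asIso (U.ι.stalkMap x)).commRingCatIsoToRingEquiv
  obtain ⟨h1, h2⟩ := hX (U.ι x)
  haveI := h1
  haveI := h2
  haveI : IsDomain (U.toScheme.presheaf.stalk x) := e.toMulEquiv.isDomain_iff.1 h1
  exact ⟨inferInstance, IsIntegrallyClosed.of_equiv e⟩

/-- **A morphism from an open piece of the affine line to the Picard scheme of a normal proper scheme is constant.** -/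
theorem eq_of_rational_curve {f : X ⟶ Spec (CommRingCat.of K)} [IsProper f] (hX : Pi1.IsNormalScheme X)
    {P : Over (Spec (CommRingCat.of K))} {φ : ∀ T, PicF.Cl (PicF.XT f T) → (T ⟶ P)} (hP : IsRelPic f P φ)
    (U : (𝔸(ULift.{u} (Fin 1); Spec (CommRingCat.of K))).Opens)
    (g : Over.mk (U.ι ≫ (𝔸(ULift.{u} (Fin 1); Spec (CommRingCat.of K)) ↘ Spec (CommRingCat.of K))) ⟶ P)
    (t₁ t₂ : Over.mk (𝟙 (Spec (CommRingCat.of K))) ⟶
      Over.mk (U.ι ≫ (𝔸(ULift.{u} (Fin 1); Spec (CommRingCat.of K)) ↘ Spec (CommRingCat.of K)))) :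
    t₁ ≫ g = t₂ ≫ g := by
  have hsect : HasSect (Over.mk (𝟙 (Spec (CommRingCat.of K)))) := hasSect_pt _
  obtain ⟨L₁, hL₁⟩ := exists_cls_sect hP hsect (t₁ ≫ g)
  obtain ⟨L₂, hL₂⟩ := exists_cls_sect hP hsect (t₂ ≫ g)
  haveI : IsLocallyNoetherian X := LocallyOfFiniteType.isLocallyNoetherian f
  let pt := Over.mk (𝟙 (Spec (CommRingCat.of K)))
  haveI : IsIso pt.hom := inferInstanceAs (IsIso (𝟙 (Spec (CommRingCat.of K))))
  let e : PicF.XT f pt ⟶ X := pullback.fst f pt.hom
  haveI : IsIso e := (IsPullback.of_hasPullback f pt.hom).isIso_fst_of_isIso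
  obtain ⟨i⟩ : Nonempty (pb (inv e) L₁ ≅ pb (inv e) L₂) := by
    refine iso_of_components (AmpleDevLib.isInvertible_pb _ hL₁.1) (AmpleDevLib.isInvertible_pb _ hL₂.1) fun C hC hCc => ?_
    haveI := hC
    haveI : IsClosedImmersion C.ι := IsClosedImmersion.of_isPreimmersion _ (by rw [Scheme.Opens.range_ι]; exact hCc)
    let fC : C.toScheme ⟶ Spec (CommRingCat.of K) := C.ι ≫ f
    haveI : IsLocallyNoetherian C.toScheme := LocallyOfFiniteType.isLocallyNoetherian fC
    have hN := isNormalScheme_open hX C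
    haveI hdom : ∀ x : C.toScheme, IsDomain (C.toScheme.presheaf.stalk x) := fun x => (hN x).1
    haveI : IsIntegral C.toScheme := (Groth.Agent.S2280.result C.toScheme).2.mpr ⟨inferInstance, hdom⟩
    haveI : CompactSpace C.toScheme := QuasiCompact.compactSpace_of_compactSpace fC
    haveI : IsNoetherian C.toScheme := ⟨⟩
    haveI : GeometricallyConnected fC := Groth.Agent.S2501.result fC
    haveI : GeometricallyReduced fC := GrpdFieldLib.geometricallyReduced_of_perfect fC
    haveI : Nonempty C.toScheme := inferInstance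
    haveI : JacobsonSpace C.toScheme := LocallyOfFiniteType.jacobsonSpace fC
    obtain ⟨x, -, hx⟩ := nonempty_inter_closedPoints (Z := (Set.univ : Set C.toScheme)) Set.univ_nonempty
      isClosed_univ.isLocallyClosed
    let σ := pointOfClosedPoint fC x hx
    have hσ : σ ≫ C.ι ≫ f = 𝟙 _ := pointOfClosedPoint_comp fC x hx
    have ha : ∀ (T : Over (Spec (CommRingCat.of K))) (V : T.left.Opens),
        Function.Bijective ((PicF.XTproj (C.ι ≫ f) T).app V) := fun T V =>
      H0Lib.bijective_app_of_geometrically (pullback.snd fC T.hom) V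
    obtain ⟨N, hN', hNp⟩ := exists_class_piece f C.ι σ hσ hP ha g
    obtain ⟨c, ⟨hc, hceq⟩, -⟩ := Groth.Agent.S7819.result (Spec (CommRingCat.of K)) 1 U t₁.left (Over.w t₁) fC hN
      (PicF.cl N) ⟨N, rfl, hN'⟩
    obtain ⟨M, rfl, hM⟩ := hc
    have hNM : CubeConsLib.cl N = CubeConsLib.pull (pullback.fst fC (U.ι ≫ (𝔸(ULift.{u} (Fin 1); Spec (CommRingCat.of K)) ↘ Spec (CommRingCat.of K)))) (CubeConsLib.cl M) :=
      (CubeConsLib.cl_eq_iff.2 (cl_eq_iff.1 hceq)).symm
    have key : ∀ (t : pt ⟶ _) (L : (PicF.XT f pt).Modules), Cls φ (t ≫ g) L →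
        CubeConsLib.pull (srcMap f C.ι pt) (CubeConsLib.cl L) =
          CubeConsLib.pull (pullback.fst fC pt.hom) (CubeConsLib.cl M) := by
      intro t L hL
      rw [← rigMod_pt f C.ι σ hσ hL.1, ← hNp pt hsect t L hL, hNM]
      exact (CubeConsLib.pull_comp (PicF.XTmap fC t) _ _).trans
        (congrArg (fun q => CubeConsLib.pull q (CubeConsLib.cl M)) (PicRelBCLib.XTmap_fst fC t))
    have hk := (key t₁ L₁ hL₁).trans (key t₂ L₂ hL₂).symm
    haveI : IsIso (pullback.fst fC pt.hom) := (IsPullback.of_hasPullback fC pt.hom).isIso_fst_of_isIso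
    have hcomp : inv (pullback.fst fC pt.hom) ≫ srcMap f C.ι pt = C.ι ≫ inv e := by
      rw [IsIso.inv_comp_eq, ← Category.assoc, IsIso.eq_comp_inv]
      exact pullback.lift_fst _ _ _
    rw [← CubeConsLib.cl_eq_iff, ← CubeConsLib.pull_cl, ← CubeConsLib.pull_cl, ← CubeConsLib.pull_cl,
      CubeConsLib.pull_comp, ← CubeConsLib.pull_cl (inv e) L₂, CubeConsLib.pull_comp, ← hcomp,
      ← CubeConsLib.pull_comp, ← CubeConsLib.pull_comp, hk]
  have hiso : Nonempty (L₁ ≅ L₂) := by
    rw [← CubeConsLib.cl_eq_iff]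
    have h1 := congrArg (CubeConsLib.pull e) (CubeConsLib.cl_eq_iff.2 ⟨i⟩)
    rw [← CubeConsLib.pull_cl, ← CubeConsLib.pull_cl, CubeConsLib.pull_comp, CubeConsLib.pull_comp, IsIso.hom_inv_id,
      DescAppLib.pull_id, DescAppLib.pull_id] at h1
    exact h1
  exact hL₁.2.symm.trans ((congrArg (φ _) (cl_eq_iff.2 hiso)).trans hL₂.2)

end PicRepLib
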