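import Groth.Agent.S14585
import Groth.Agent.SemiAbLib.RedComp
import Groth.Agent.NeronQFLib.Kill
import Groth.Agent.AlbLib.Semi

/-!
# Groups receiving only constant maps from rational curves are proper
-/

set_option autoImplicit false
set_option linter.style.haveILetI false
set_option backward.isDefEq.respectTransparency false
set_option maxHeartbeats 1000000

noncomputable section

universe u

open CategoryTheory CategoryTheory.Limits MonoidalCategory CartesianMonoidalCategory AlgebraicGeometry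
open scoped MonObj
open Groth.Agent CoactBr

attribute [-instance] CategoryTheory.Hom.commGroup

namespace PicRepLib

variable {K : Type u} [Field K] [IsAlgClosed K]

/-- All morphisms from open pieces of the affine line take only one value on rational points. -/
def RatConst (G : Over (Spec (CommRingCat.of K))) : Prop :=
  ∀ (U : (𝔸(ULift.{u} (Fin 1); Spec (CommRingCat.of K))).Opens)
    (g : Over.mk (U.ι ≫ (𝔸(ULift.{u} (Fin 1); Spec (CommRingCat.of K)) ↘ Spec (CommRingCat.of K))) ⟶ G)
    (t₁ t₂ : Over.mk (𝟙 (Spec (CommRingCat.of K))) ⟶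
      Over.mk (U.ι ≫ (𝔸(ULift.{u} (Fin 1); Spec (CommRingCat.of K)) ↘ Spec (CommRingCat.of K)))),
    t₁ ≫ g = t₂ ≫ g

theorem RatConst.of_mono {G H : Over (Spec (CommRingCat.of K))} (h : RatConst G) (i : H ⟶ G) [Mono i] :
    RatConst H := fun U g t₁ t₂ => by
  rw [← cancel_mono i, Category.assoc, Category.assoc]
  exact h U (g ≫ i) t₁ t₂

theorem RatConst.lines {G : Over (Spec (CommRingCat.of K))} [LocallyOfFiniteType G.hom] [IsSeparated G.hom]
    (h : RatConst G) (f : A1AVLib.aff K PUnit.{u + 1} ⟶ G) :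
    ∃ g : 𝟙_ (Over (Spec (CommRingCat.of K))) ⟶ G, f = toUnit _ ≫ g := by
  let n : Type u := ULift.{u} (Fin 1)
  let W : (𝔸(n; Spec (CommRingCat.of K))).Opens := ⊤
  let sh : A1AVLib.aff K n ⟶ A1AVLib.aff K PUnit.{u + 1} :=
    A1AVLib.mkT fun _ => A1AVLib.val (𝟙 _) (ULift.up (0 : Fin 1))
  let T := Over.mk (W.ι ≫ (𝔸(n; Spec (CommRingCat.of K)) ↘ Spec (CommRingCat.of K)))
  let ιT : T ⟶ A1AVLib.aff K n := Over.homMk W.ι rfl
  let z : 𝟙_ (Over (Spec (CommRingCat.of K))) ⟶ A1AVLib.aff K PUnit.{u + 1} := A1AVLib.mkT fun _ => 0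
  refine ⟨z ≫ f, ?_⟩
  have hlift : ∀ q : 𝟙_ (Over (Spec (CommRingCat.of K))) ⟶ A1AVLib.aff K PUnit.{u + 1},
      ∃ t : Over.mk (𝟙 (Spec (CommRingCat.of K))) ⟶ T, t ≫ ιT ≫ sh = q := fun q => by
    let v : 𝟙_ (Over (Spec (CommRingCat.of K))) ⟶ A1AVLib.aff K n := A1AVLib.mkT fun _ => A1AVLib.val q PUnit.unit
    let l := IsOpenImmersion.lift W.ι v.left (by rw [Scheme.Opens.range_ι]; exact Set.subset_univ _)
    have hl : l ≫ W.ι = v.left := IsOpenImmersion.lift_fac _ _ _
    refine ⟨Over.homMk l ((Category.assoc _ _ _).symm.trans ((congrArg (· ≫ _) hl).trans (Over.w v))), ?_⟩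
    have hv : v ≫ sh = q := by
      refine A1AVLib.val_inj (funext fun i => ?_)
      rw [A1AVLib.val_comp, A1AVLib.val_mkT]
      have h1 := congrFun (A1AVLib.val_comp v (𝟙 (A1AVLib.aff K n))) (ULift.up (0 : Fin 1))
      rw [Category.comp_id, A1AVLib.val_mkT] at h1
      exact h1.symm
    rw [← hv, ← Category.assoc]
    exact congrArg (· ≫ sh) (Over.OverMorphism.ext hl)
  haveI : IsReduced (A1AVLib.aff K PUnit.{u + 1}).left :=
    isReduced_of_isOpenImmersion (AffineSpace.SpecIso PUnit.{u + 1} (CommRingCat.of K)).hom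
  haveI : LocallyOfFiniteType (A1AVLib.aff K PUnit.{u + 1}).hom :=
    inferInstanceAs (LocallyOfFiniteType (𝔸(PUnit.{u + 1}; Spec (CommRingCat.of K)) ↘ Spec (CommRingCat.of K)))
  haveI : LocallyOfFiniteType (f.left ≫ G.hom) := by rw [Over.w f]; infer_instance
  refine Over.OverMorphism.ext (ext_of_apply_eq G.hom Set.univ isClosed_univ.isLocallyClosed dense_univ
    (fun x _ hx => ?_) ((Over.w f).trans (Over.w (toUnit _ ≫ z ≫ f)).symm))
  let p : 𝟙_ (Over (Spec (CommRingCat.of K))) ⟶ A1AVLib.aff K PUnit.{u + 1} :=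
    Over.homMk (pointOfClosedPoint (A1AVLib.aff K PUnit.{u + 1}).hom x hx)
      (pointOfClosedPoint_comp (A1AVLib.aff K PUnit.{u + 1}).hom x hx)
  obtain ⟨t, ht⟩ := hlift p
  obtain ⟨t', ht'⟩ := hlift z
  have h1 : p ≫ f = z ≫ f := by
    rw [← ht, ← ht', Category.assoc, Category.assoc]
    exact h W ((ιT ≫ sh) ≫ f) t t'
  haveI : Subsingleton ↥((𝟙_ (Over (Spec (CommRingCat.of K)))).left) :=
    inferInstanceAs (Subsingleton (PrimeSpectrum K))
  have h2 : f.left x = (z ≫ f).left (IsLocalRing.closedPoint K : PrimeSpectrum K) := by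
    rw [← h1, Over.comp_left, Scheme.Hom.comp_apply]
    exact congrArg _ (pointOfClosedPoint_apply (A1AVLib.aff K PUnit.{u + 1}).hom x hx _).symm
  refine h2.trans ?_
  show (z ≫ f).left _ = (z ≫ f).left ((toUnit (A1AVLib.aff K PUnit.{u + 1})).left x)
  exact congrArg _ (Subsingleton.elim _ _)

/-- A torus receiving only constant maps from rational curves is trivial. -/
theorem RatConst.torus_trivial {T : Over (Spec (CommRingCat.of K))} [GrpObj T] (hT : Red.IsTorus T)
    (h : RatConst T) : IsIso T.hom := by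
  obtain ⟨r, v, hv, hv'⟩ := SemiAbLib.exists_laurent_iso hT
  haveI : IsIso v.hom.left := (Over.forget _).map_isIso v.hom
  suffices hr : r = 0 by
    subst hr
    have hc : Function.Bijective (algebraMap K (SemiAbLib.Laur K 0)) := by
      refine ⟨(algebraMap K (SemiAbLib.Laur K 0)).injective, fun a => ?_⟩
      refine ⟨MonoidAlgebra.lift K K _ (1 : Multiplicative (Fin 0 → ℤ) →* K) a, ?_⟩
      have : (Algebra.ofId K (SemiAbLib.Laur K 0)).comp (MonoidAlgebra.lift K K _ (1 : Multiplicative (Fin 0 → ℤ) →* K)) =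
          AlgHom.id K _ := MonoidAlgebra.algHom_ext (fun m => by
        rw [Subsingleton.elim m 1]
        simp [MonoidAlgebra.one_def.symm]) (Subsingleton.elim _ _)
      exact AlgHom.congr_fun this a
    haveI : IsIso (CommRingCat.ofHom (algebraMap K (SemiAbLib.Laur K 0))) :=
      (RingEquiv.ofBijective _ hc).toCommRingCatIso.isIso_hom
    haveI : IsIso (CoactBr.sp K (SemiAbLib.Laur K 0)).hom :=
      inferInstanceAs (IsIso (Spec.map (CommRingCat.ofHom (algebraMap K (SemiAbLib.Laur K 0)))))
    exact (IsIso.of_isIso_fac_left (f := v.hom.left) (g := T.hom) (Over.w v.hom))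
  by_contra hr
  obtain ⟨i₀⟩ : Nonempty (Fin r) := ⟨⟨0, Nat.pos_of_ne_zero hr⟩⟩
  let n : Type u := ULift.{u} (Fin 1)
  let C := Localization.Away (MvPolynomial.X (R := K) (ULift.up (0 : Fin 1) : n))
  let S := Spec (CommRingCat.of K)
  let e : Spec (CommRingCat.of C) ⟶ 𝔸(n; S) :=
    Spec.map (CommRingCat.ofHom (algebraMap (MvPolynomial n K) C)) ≫ (AffineSpace.SpecIso n (CommRingCat.of K)).inv
  haveI : IsOpenImmersion (Spec.map (CommRingCat.ofHom (algebraMap (MvPolynomial n K) C))) :=
    IsOpenImmersion.of_isLocalization (MvPolynomial.X (R := K) (ULift.up (0 : Fin 1) : n))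
  haveI : IsOpenImmersion e := inferInstance
  let U := e.opensRange
  let ee : Spec (CommRingCat.of C) ≅ (U : Scheme.{u}) := IsOpenImmersion.isoOfRangeEq e U.ι
    (by simp [U, Scheme.Hom.coe_opensRange])
  have hee : ee.hom ≫ U.ι = e := IsOpenImmersion.isoOfRangeEq_hom_fac _ _ _
  have he : e ≫ (𝔸(n; S) ↘ S) = Spec.map (CommRingCat.ofHom (algebraMap K C)) := by
    rw [Category.assoc]
    refine (congrArg _ (AffineSpace.SpecIso_inv_over (CommRingCat.of K))).trans ?_
    rw [← Spec.map_comp]
    rfl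
  let TU := Over.mk (U.ι ≫ (𝔸(n; S) ↘ S))
  let w : CoactBr.sp K C ≅ TU := Over.isoMk ee (by
    show ee.hom ≫ U.ι ≫ _ = _
    rw [reassoc_of% hee, he]
    rfl)
  let x : Cˣ := (IsLocalization.Away.algebraMap_isUnit (MvPolynomial.X (R := K) (ULift.up (0 : Fin 1) : n))).unit
  let χ : Multiplicative (Fin r → ℤ) →* C :=
    { toFun := fun m => ((x ^ m.toAdd i₀ : Cˣ) : C)
      map_one' := by simp
      map_mul' := fun a b => by simp [zpow_add] }
  let ψ : SemiAbLib.Laur K r →ₐ[K] C := MonoidAlgebra.lift K C _ χ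
  let ε : ∀ c : Kˣ, C →ₐ[K] K := fun c => IsLocalization.liftAlgHom
    (M := Submonoid.powers (MvPolynomial.X (R := K) (ULift.up (0 : Fin 1) : n)))
    (f := MvPolynomial.aeval fun _ => (c : K)) (by
      rintro ⟨_, m, rfl⟩
      simp only [map_pow, MvPolynomial.aeval_X]
      exact c.isUnit.pow m)
  have hε : ∀ c : Kˣ, ε c (x : C) = (c : K) := fun c => by
    show IsLocalization.liftAlgHom _ (algebraMap (MvPolynomial n K) C _) = _
    rw [IsLocalization.liftAlgHom_apply, IsLocalization.lift_eq]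
    simp
  let tp : Kˣ → (Over.mk (𝟙 S) ⟶ TU) := fun c => inv (DiagRep.toBase (R := K)) ≫ pt (ε c) ≫ w.hom
  obtain ⟨c, hc⟩ : ∃ c : Kˣ, c ≠ 1 := by
    classical
    obtain ⟨a, ha⟩ := Infinite.exists_notMem_finset ({0, 1} : Finset K)
    simp only [Finset.mem_insert, Finset.mem_singleton, not_or] at ha
    exact ⟨Units.mk0 a ha.1, fun h => ha.2 (congrArg Units.val h)⟩
  have h1 := h U (w.inv ≫ pt ψ ≫ v.hom) (tp c) (tp 1)
  simp only [tp, Category.assoc, Iso.hom_inv_id_assoc] at h1
  rw [cancel_epi, ← Category.assoc, ← Category.assoc (pt (ε 1)), cancel_mono, ← pt_comp, ← pt_comp] at h1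
  have h2 : (ε c).comp ψ = (ε 1).comp ψ := AlgHom.ext fun a =>
    RingHom.congr_fun (congrArg CommRingCat.Hom.hom (Spec.map_injective (congrArg CommaMorphism.left h1))) a
  have h3 := AlgHom.congr_fun h2 (MonoidAlgebra.of K _ (Multiplicative.ofAdd (Pi.single i₀ (1 : ℤ))))
  simp [ψ, χ] at h3
  rw [hε, hε] at h3
  exact hc (Units.ext h3)

/-- **A connected group receiving only constant maps from rational curves is proper.** -/
theorem RatConst.isProper {G : Over (Spec (CommRingCat.of K))} [GrpObj G] [LocallyOfFiniteType G.hom]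
    [QuasiCompact G.hom] [ConnectedSpace G.left] (h : RatConst G) : IsProper G.hom := by
  haveI : IsSeparated G.hom := GrpField.isSeparated_grp (G := G)
  obtain ⟨R, _, r, hr, hrc, hRs, hRr⟩ := DenseSubLib.exists_smooth_subgroup (A := G) ⊤
  haveI := hr; haveI := hrc; haveI := hRs
  haveI : Mono r := Over.mono_of_mono_left r
  haveI : QuasiCompact R.hom := by rw [← Over.w r]; infer_instance
  haveI : IsSeparated R.hom := by rw [← Over.w r]; infer_instance
  haveI : Surjective r.left := ⟨fun y => by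
    rw [← Set.mem_range, hRr]
    exact ChevThmLib.forall_mem_of_points isClosed_closure
      (fun x => subset_closure (Set.mem_image_of_mem _ (Subgroup.mem_top x))) y⟩
  haveI : ConnectedSpace R.left :=
    let h := r.left.isClosedEmbedding.isEmbedding.toHomeomorphOfSurjective r.left.surjective
    h.symm.surjective.connectedSpace h.symm.continuous
  obtain ⟨T, _, i, A, _, q, hi, hic, hT, hq, hqs, hqf, hker, hAp, hAs, hAc⟩ :=
    (Groth.Agent.S14585.result K R).2 (RatConst.lines (h.of_mono r))
  haveI := hi; haveI := hic; haveI := hq; haveI := hqs; haveI := hqf; haveI := hAp; haveI := hAs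
  haveI : Mono i := NeronQFLib.mono_of_kernel q i hker
  haveI := RatConst.torus_trivial hT ((h.of_mono r).of_mono i)
  haveI : IsIso ((Over.forget _).map (toUnit T)) := by
    show IsIso (toUnit T).left
    rw [show (toUnit T).left = T.hom from (Category.comp_id _).symm.trans (Over.w (toUnit T))]
    infer_instance
  haveI : Mono q := ⟨fun {W} a b hab => by
    obtain ⟨z, hz⟩ := NeronQFLib.exists_kernel_factor q i hker (a * b⁻¹)
      (by rw [MonObj.mul_comp, GrpObj.inv_comp, hab, mul_inv_cancel])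
    haveI : IsIso (toUnit T) := isIso_of_reflects_iso (toUnit T) (Over.forget _)
    have hz1 : z = 1 := by
      rw [← cancel_mono (toUnit T)]
      exact toUnit_unique _ _
    rw [hz1, MonObj.one_comp] at hz
    exact mul_inv_eq_one.1 hz.symm⟩
  haveI : Mono q.left := inferInstanceAs (Mono ((Over.forget _).map q))
  haveI : LocallyOfFiniteType A.hom := inferInstance
  haveI : LocallyOfFiniteType (q.left ≫ A.hom) := by rw [Over.w q]; infer_instance
  haveI : LocallyOfFiniteType q.left := locallyOfFiniteType_of_comp q.left A.hom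
  haveI : IsLocallyNoetherian A.left := LocallyOfFiniteType.isLocallyNoetherian A.hom
  haveI : LocallyOfFinitePresentation q.left := LocallyOfFinitePresentation.iff_locallyOfFiniteType.2 inferInstance
  haveI : IsOpenImmersion q.left := IsOpenImmersion.of_flat_of_mono q.left
  haveI : IsIso q.left := (isIso_iff_isOpenImmersion_and_surjective q.left).2 ⟨inferInstance, inferInstance⟩
  haveI : IsProper R.hom := by rw [← Over.w q]; infer_instance
  haveI : UniversallyClosed (r.left ≫ G.hom) := by rw [Over.w r]; infer_instance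
  haveI : UniversallyClosed G.hom := UniversallyClosed.of_comp_surjective r.left G.hom
  exact { }

end PicRepLib
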