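import Groth.Agent.PicRepLib.LineConst
import Groth.Agent.PicRepLib.RatConst
import Groth.Agent.PicRepLib.Grp
import Groth.Agent.FinEtNeronLib.Main
import Groth.Agent.S2070
import Groth.Agent.S0086

/-!
# Properness of the neutral component of the Picard scheme of a geometrically normal proper scheme
-/

set_option autoImplicit false
set_option linter.style.haveILetI false
set_option backward.isDefEq.respectTransparency false
set_option maxHeartbeats 1000000

noncomputable section

universe u

open CategoryTheory CategoryTheory.Limits MonoidalCategory CartesianMonoidalCategory AlgebraicGeometry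
open scoped MonObj TensorProduct
open Groth.Agent
open PicRel (IsRelPic)

attribute [-instance] CategoryTheory.Hom.commGroup

namespace PicRepLib

variable {k : Type u} [Field k]

/-- The chart of a base change to an extension field given by an affine chart. -/
theorem exists_bc_chart {X : Scheme.{u}} (f : X ⟶ Spec (CommRingCat.of k)) (A : Type u) [CommRing A] [Algebra k A]
    (c : Spec (CommRingCat.of A) ⟶ X) [IsOpenImmersion c] (hc : c ≫ f = Spec.map (CommRingCat.ofHom (algebraMap k A)))
    (k' : Type u) [Field k'] [Algebra k k'] :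
    ∃ j : Spec (CommRingCat.of (k' ⊗[k] A)) ⟶ pullback f (Spec.map (CommRingCat.ofHom (algebraMap k k'))),
      IsOpenImmersion j ∧ ∀ z, pullback.fst f (Spec.map (CommRingCat.ofHom (algebraMap k k'))) z ∈ Set.range c →
        z ∈ Set.range j := by
  let g := Spec.map (CommRingCat.ofHom (algebraMap k k'))
  let q : pullback g (c ≫ f) ⟶ pullback f g :=
    pullback.map g (c ≫ f) g f (𝟙 _) c (𝟙 _) (by simp) (by simp) ≫ (pullbackSymmetry g f).hom
  let e : Spec (CommRingCat.of (k' ⊗[k] A)) ⟶ pullback g (c ≫ f) :=
    (pullbackSpecIso k k' A).inv ≫ (pullback.congrHom rfl hc.symm).hom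
  haveI : IsIso e := inferInstance
  haveI : IsOpenImmersion (pullback.map g (c ≫ f) g f (𝟙 _) c (𝟙 _) (by simp) (by simp)) := inferInstance
  haveI : IsOpenImmersion q := inferInstance
  refine ⟨e ≫ q, inferInstance, ?_⟩
  rintro z ⟨w, hw⟩
  have hz : g (pullback.snd f g z) = (c ≫ f) w := by
    rw [Scheme.Hom.comp_apply, hw, ← Scheme.Hom.comp_apply, ← Scheme.Hom.comp_apply, pullback.condition]
  have hmem : (pullbackSymmetry g f).inv z ∈ Set.range
      (pullback.map g (c ≫ f) g f (𝟙 _) c (𝟙 _) (by simp) (by simp)) := by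
    rw [Scheme.Pullback.range_map]
    refine ⟨?_, ?_⟩
    · show _ ∈ Set.range (𝟙 (Spec (CommRingCat.of k')) : _ ⟶ _)
      exact ⟨_, rfl⟩
    · show _ ∈ Set.range c
      refine ⟨w, ?_⟩
      rw [hw, ← Scheme.Hom.comp_apply, pullbackSymmetry_inv_comp_snd]
  obtain ⟨a, ha⟩ := hmem
  refine ⟨inv e a, ?_⟩
  rw [← Scheme.Hom.comp_apply, IsIso.inv_hom_id_assoc, Scheme.Hom.comp_apply, ha, ← Scheme.Hom.comp_apply,
    Iso.inv_hom_id]
  rfl

/-- Normality after all finite extensions gives normality after every extension. -/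
theorem isNormalScheme_bc {X : Scheme.{u}} (f : X ⟶ Spec (CommRingCat.of k))
    (hnorm : ∀ (k' : Type u) [Field k'] [Algebra k k'], Module.Finite k k' →
      Pi1.IsNormalScheme (pullback f (Spec.map (CommRingCat.ofHom (algebraMap k k')))))
    (K : Type u) [Field K] [Algebra k K] :
    Pi1.IsNormalScheme (pullback f (Spec.map (CommRingCat.ofHom (algebraMap k K)))) := by
  intro z
  let x := pullback.fst f (Spec.map (CommRingCat.ofHom (algebraMap k K))) z
  obtain ⟨A₀, c, hc, w, hw⟩ : ∃ (A₀ : CommRingCat.{u}) (c : Spec A₀ ⟶ X), IsOpenImmersion c ∧ ∃ w, c w = x := by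
    obtain ⟨i, w, hw⟩ := X.affineOpenCover.openCover.exists_eq x
    exact ⟨_, X.affineOpenCover.f i, inferInstance, w, hw⟩
  haveI := hc
  letI : Algebra k A₀ := (Spec.preimage (c ≫ f)).hom.toAlgebra
  have hcf : c ≫ f = Spec.map (CommRingCat.ofHom (algebraMap k A₀)) := (Spec.map_preimage (c ≫ f)).symm
  have hA := (Groth.Agent.S2070.result (k := k) (A := A₀)).2 fun k' _ _ hfin _ P hP => by
    obtain ⟨j, hj, -⟩ := exists_bc_chart f A₀ c hcf k'
    haveI := hj
    have h1 : Pi1.IsNormalScheme (Spec (CommRingCat.of (k' ⊗[k] A₀))) := fun y => by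
      obtain ⟨h1, h2⟩ := hnorm k' hfin (j y)
      let e := (asIso (j.stalkMap y)).commRingCatIsoToRingEquiv
      haveI := h1
      haveI := h2
      haveI : IsDomain ((Spec (CommRingCat.of (k' ⊗[k] A₀))).presheaf.stalk y) := e.toMulEquiv.isDomain_iff.1 h1
      exact ⟨inferInstance, IsIntegrallyClosed.of_equiv e⟩
    exact FinEtNeronLib.isNormalRing_of_spec _ h1 P
  obtain ⟨j, hj, hjr⟩ := exists_bc_chart f A₀ c hcf K
  haveI := hj
  obtain ⟨y, rfl⟩ := hjr z ⟨w, hw⟩
  have hn : Pi1.IsNormalScheme (Spec (CommRingCat.of (K ⊗[k] A₀))) :=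
    FinEtNeronLib.isNormalScheme_spec _ fun P _ => hA K P
  obtain ⟨h1, h2⟩ := hn y
  let e := (asIso (j.stalkMap y)).commRingCatIsoToRingEquiv.symm
  haveI := h1
  haveI := h2
  haveI : IsDomain ((pullback f (Spec.map (CommRingCat.ofHom (algebraMap k K)))).presheaf.stalk (j y)) :=
    e.toMulEquiv.isDomain_iff.1 h1
  exact ⟨inferInstance, IsIntegrallyClosed.of_equiv e⟩

variable {X : Scheme.{u}} {f : X ⟶ Spec (CommRingCat.of k)} [IsProper f]
  {P : Over (Spec (CommRingCat.of k))} [LocallyOfFiniteType P.hom]
  {φ : ∀ T : Over (Spec (CommRingCat.of k)), PicF.Cl (PicF.XT f T) → (T ⟶ P)}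

/-- **The neutral component of the Picard scheme of a geometrically normal proper scheme is proper.** -/
theorem exists_proper_neutral
    (hnorm : ∀ (k' : Type u) [Field k'] [Algebra k k'], Module.Finite k k' →
      Pi1.IsNormalScheme (pullback f (Spec.map (CommRingCat.ofHom (algebraMap k k')))))
    (hP : IsRelPic f P φ) (pt : ↥(Spec (CommRingCat.of k))) :
    ∃ (N : Over (Spec (CommRingCat.of k))) (_ : GrpObj N) (i : N ⟶ P), IsOpenImmersion i.left ∧ IsClosedImmersion i.left ∧
      IsProper N.hom ∧ ConnectedSpace N.left ∧ Set.range i.left =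
        connectedComponent ((φ (Over.mk (𝟙 _)) (PicF.cl (Coh.structureModule _))).left.base pt) := by
  obtain ⟨G, -, hone, -⟩ := exists_grpObj hP
  letI := G
  obtain ⟨N, _, i, hi, hic, hif, hir, hig, hcomp⟩ := GrpField.exists_identity_component (G := P)
  haveI := hi; haveI := hic; haveI := hif; haveI := hig; haveI := hcomp
  haveI : Mono i := Over.mono_of_mono_left i
  haveI : LocallyOfFiniteType N.hom := by rw [← Over.w i]; infer_instance
  haveI : QuasiCompact N.hom := (quasiCompact_iff_compactSpace N.hom).2 hcomp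
  haveI : IsLocallyNoetherian P.left := LocallyOfFiniteType.isLocallyNoetherian P.hom
  haveI : LocallyOfFinitePresentation i.left := LocallyOfFinitePresentation.iff_locallyOfFiniteType.2 inferInstance
  haveI hopen : IsOpenImmersion i.left := IsOpenImmersion.of_flat_of_mono i.left
  haveI : IrreducibleSpace N.left := GeometricallyIrreducible.irreducibleSpace_of_subsingleton N.hom
  let K := AlgebraicClosure k
  let g := Spec.map (CommRingCat.ofHom (algebraMap k K))
  let N' := Red.bc g N
  haveI : LocallyOfFiniteType N'.hom := inferInstanceAs (LocallyOfFiniteType (pullback.snd N.hom g))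
  haveI : QuasiCompact N'.hom := inferInstanceAs (QuasiCompact (pullback.snd N.hom g))
  haveI : GeometricallyIrreducible N'.hom := inferInstanceAs (GeometricallyIrreducible (pullback.snd N.hom g))
  haveI : IrreducibleSpace N'.left := GeometricallyIrreducible.irreducibleSpace_of_subsingleton N'.hom
  have hconst : RatConst N' := by
    have hX := isNormalScheme_bc f hnorm K
    have h0 : RatConst (Over.mk (pullback.snd P.hom g)) :=
      fun U m t₁ t₂ => eq_of_rational_curve hX (PicRelBCLib.isRelPic_bc f g hP) U m t₁ t₂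
    haveI : Mono ((Over.pullback g).map i) := inferInstance
    exact RatConst.of_mono (G := Red.bc g P) h0 ((Over.pullback g).map i)
  haveI : IsProper (pullback.snd N.hom g) := hconst.isProper
  haveI : IsProper N.hom := by
    haveI : Flat g := inferInstance
    haveI : Surjective g := ⟨fun y => ⟨IsLocalRing.closedPoint K, @Subsingleton.elim (PrimeSpectrum k) _ _ _⟩⟩
    haveI : MorphismProperty.DescendsAlong @IsProper (@Surjective ⊓ @Flat ⊓ @QuasiCompact : MorphismProperty Scheme.{u}) :=
      Groth.Agent.S0086.result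
    exact MorphismProperty.of_pullback_snd_of_descendsAlong (P := @IsProper)
      (Q := @Surjective ⊓ @Flat ⊓ @QuasiCompact) (f := N.hom) (g := g) ⟨⟨inferInstance, inferInstance⟩, inferInstance⟩
      inferInstance
  refine ⟨N, inferInstance, i, hopen, hic, inferInstance, inferInstance, ?_⟩
  rw [hir, ← GrpField.connectedComponent_unit]
  refine congrArg connectedComponent ?_
  show (η[P] : 𝟙_ (Over (Spec (CommRingCat.of k))) ⟶ P).left (IsLocalRing.closedPoint k : PrimeSpectrum k) = _
  rw [hone]
  exact congrArg _ (@Subsingleton.elim (PrimeSpectrum k) _ _ _)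

end PicRepLib
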