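import Groth.Agent.PicRepLib.NthUnr
import Groth.Agent.PicRepLib.EtStage
import Groth.Agent.PicH1Lib.Adic
import Groth.Agent.AlgSpLib.FormalRows

/-!
# Multiplication by `n` on the Picard scheme is étale where `n` is invertible
-/

set_option autoImplicit false
set_option linter.style.haveILetI false
set_option backward.isDefEq.respectTransparency false
set_option maxRecDepth 8000
set_option maxHeartbeats 2000000
universe u

open CategoryTheory CategoryTheory.Limits AlgebraicGeometry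
open PicRel (ovr ovrHom IsRelPic)
open KFlatLib (pb)

noncomputable section

namespace PicRepLib

/-- Lifts along a surjection are unique for unramified morphisms locally of finite type. -/
theorem eq_of_lifts {O Y Z Z₀ : Scheme.{u}} (g : O ⟶ Y) [FormallyUnramified g] [LocallyOfFiniteType g]
    (i : Z₀ ⟶ Z) [Surjective i] {l₁ l₂ : Z ⟶ O} (h : l₁ ≫ g = l₂ ≫ g) (hi : i ≫ l₁ = i ≫ l₂) : l₁ = l₂ := by
  let p : Z ⟶ pullback g g := pullback.lift l₁ l₂ h
  have hp : i ≫ p = (i ≫ l₁) ≫ pullback.diagonal g := pullback.hom_ext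
    (by simp [p, Category.assoc]) (by simp [p, Category.assoc, hi])
  let r := IsOpenImmersion.lift (pullback.diagonal g) p (by
    rintro _ ⟨z, rfl⟩
    obtain ⟨z₀, rfl⟩ := i.surjective z
    exact ⟨(i ≫ l₁) z₀, by rw [← Scheme.Hom.comp_apply, ← hp, Scheme.Hom.comp_apply]⟩)
  have hr : r ≫ pullback.diagonal g = p := IsOpenImmersion.lift_fac _ _ _
  have h1 : l₁ = r := by
    rw [← pullback.lift_fst l₁ l₂ h, show pullback.lift l₁ l₂ h = p from rfl, ← hr]; simp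
  have h2 : l₂ = r := by
    rw [← pullback.lift_snd l₁ l₂ h, show pullback.lift l₁ l₂ h = p from rfl, ← hr]; simp
  rw [h1, h2]

theorem isUnit_of_sq {B : Type u} [CommRing B] (J : Ideal B) (hJ : J ^ 2 = ⊥) {r : B}
    (h : IsUnit (Ideal.Quotient.mk J r)) : IsUnit r := by
  obtain ⟨s, hs⟩ := Ideal.Quotient.mk_surjective (h.unit⁻¹ : (B ⧸ J)ˣ).1
  have h1 : r * s - 1 ∈ J := by
    rw [← Ideal.Quotient.eq_zero_iff_mem, map_sub, map_mul, hs, map_one, sub_eq_zero]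
    exact h.mul_val_inv
  have h2 : (r * s - 1) * (r * s - 1) = 0 := by
    have h3 := Ideal.mul_mem_mul h1 h1
    rw [← sq J, hJ, Ideal.mem_bot] at h3
    exact h3
  exact IsUnit.of_mul_eq_one (s * (2 - r * s)) (by linear_combination -h2)

variable {X S : Scheme.{u}} {f : X ⟶ S} {P : Over S} {φ : ∀ T : Over S, PicF.Cl (PicF.XT f T) → (T ⟶ P)}

/-- A root on the closed subscheme gives a root. -/
theorem exists_root_point (hP : IsRelPic f P φ) {n : ℕ} {m : P ⟶ P}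
    (hm : ∀ (T : Over S) (L : (PicF.XT f T).Modules), PicF.IsInvertible L →
      φ T (PicF.cl (CohB1.tensorPow L n)) = φ T (PicF.cl L) ≫ m)
    {B : Type u} [CommRing B] (J : Ideal B) (hJ : J ^ 2 = ⊥) (hn : IsUnit (n : B))
    (β : Spec (CommRingCat.of B) ⟶ S) {T₀ : Over S} (e : T₀ ⟶ Over.mk β)
    (hT₀ : T₀.left = Spec (CommRingCat.of (B ⧸ J)))
    (he : e.left = eqToHom hT₀ ≫ Spec.map (CommRingCat.ofHom (Ideal.Quotient.mk J)))
    {v : Over.mk β ⟶ P} {u : T₀ ⟶ P} {M : (PicF.XT f (Over.mk β)).Modules} {N : (PicF.XT f T₀).Modules}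
    (hM : Cls φ v M) (hN : Cls φ u N) (hMN : Nonempty (pb (PicF.XTmap f e) M ≅ CohB1.tensorPow N n)) :
    ∃ w : Over.mk β ⟶ P, e ≫ w = u ∧ w ≫ m = v := by
  let gs := Spec.map (CommRingCat.ofHom (Ideal.Quotient.mk J))
  haveI : IsClosedImmersion gs := IsClosedImmersion.spec_of_surjective _ Ideal.Quotient.mk_surjective
  haveI : IsClosedImmersion e.left := by rw [he]; infer_instance
  let t := PicF.XTmap f e
  have hsq := isPullback_XTmap (f := f) _ _ e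
  haveI : IsClosedImmersion t := MorphismProperty.of_isPullback hsq.flip inferInstance
  have hkt : t.ker = e.left.ker.comap (pullback.snd f β) := by
    show (PicF.XTmap f e).ker = _
    rw [← hsq.isoPullback_hom_fst, Scheme.Hom.ker_comp_of_isIso, Scheme.IdealSheafData.ker_fst_of_isClosedImmersion]
    rfl
  have hI : t.ker * t.ker = ⊥ := by
    rw [hkt]
    refine PicH1Lib.comap_mul_self_eq_bot (S := Spec (CommRingCat.of B)) (pullback.snd f β) _ ?_
    rw [he, Scheme.Hom.ker_comp_of_isIso]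
    exact PicH1Lib.ker_mul_ker_eq_bot _ _ (by rw [Ideal.mk_ker, ← sq, hJ])
  have hn' : IsUnit (n : Γ(PicF.XT f (Over.mk β), ⊤)) := by
    have h := (hn.map (Scheme.ΓSpecIso (CommRingCat.of B)).inv.hom).map (pullback.snd f β).appTop.hom
    rwa [map_natCast, map_natCast] at h
  obtain ⟨L, hL, ⟨eL⟩, ⟨eM⟩⟩ := exists_root t hI n hn' hN.1 hM.1 hMN
  refine ⟨φ _ (PicF.cl L), ?_, ?_⟩
  · rw [← hP.natural _ _ e _ ⟨L, rfl, hL⟩, ← hN.2]
    exact congrArg (φ _) (cl_eq_iff.2 ⟨eL⟩)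
  · rw [← hm _ _ hL, ← hM.2]
    exact congrArg (φ _) (cl_eq_iff.2 ⟨eM⟩)

theorem pullPow {T T' : Over S} (g : T' ⟶ T) {L : (PicF.XT f T).Modules} (hL : PicF.IsInvertible L) (n : ℕ) :
    Nonempty (pb (PicF.XTmap f g) (CohB1.tensorPow L n) ≅ CohB1.tensorPow (pb (PicF.XTmap f g) L) n) :=
  ⟨(AmpleDevLib.exists_pullPowIso (PicF.XTmap f g) hL n).choose⟩

variable [IsLocallyNoetherian S] [LocallyOfFiniteType P.hom] {n : ℕ} {m : P ⟶ P}

/-- The open where `n` is invertible. -/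
abbrev Dn (P : Over S) (n : ℕ) : P.left.Opens := P.left.basicOpen (n : Γ(P.left, ⊤))

/-- Lifts exist étale locally. -/
theorem exists_local_lift (hP : IsRelPic f P φ)
    (hm : ∀ (T : Over S) (L : (PicF.XT f T).Modules), PicF.IsInvertible L →
      φ T (PicF.cl (CohB1.tensorPow L n)) = φ T (PicF.cl L) ≫ m)
    (A : Type u) [CommRing A] (I : Ideal A) (hI : I ^ 2 = ⊥)
    (a : Spec (CommRingCat.of (A ⧸ I)) ⟶ (Dn P n : Scheme.{u})) (b : Spec (CommRingCat.of A) ⟶ P.left)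
    (hab : Spec.map (CommRingCat.ofHom (Ideal.Quotient.mk I)) ≫ b = a ≫ (Dn P n).ι ≫ m.left)
    (Q : PrimeSpectrum A) :
    ∃ (B : Type u) (_ : CommRing B) (ψ : A →+* B) (J : Ideal B) (hle : I ≤ J.comap ψ), ψ.Etale ∧ J ^ 2 = ⊥ ∧
      ∃ (Q' : PrimeSpectrum B), Q'.comap ψ = Q ∧ ∃ l : Spec (CommRingCat.of B) ⟶ (Dn P n : Scheme.{u}),
        l ≫ (Dn P n).ι ≫ m.left = Spec.map (CommRingCat.ofHom ψ) ≫ b ∧
        Spec.map (CommRingCat.ofHom (Ideal.Quotient.mk J)) ≫ l =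
          Spec.map (CommRingCat.ofHom (Ideal.quotientMap J ψ hle)) ≫ a := by
  let bS := b ≫ P.hom
  let TB : ∀ {B : Type u} [CommRing B], (A →+* B) → Over S := fun ψ => Over.mk (Spec.map (CommRingCat.ofHom ψ) ≫ bS)
  let vB : ∀ {B : Type u} [CommRing B] (ψ : A →+* B), TB ψ ⟶ P := fun ψ =>
    Over.homMk (Spec.map (CommRingCat.ofHom ψ) ≫ b) (Category.assoc _ _ _)
  let j := (Dn P n).ι
  let aS := Spec.map (CommRingCat.ofHom (Ideal.Quotient.mk I)) ≫ bS
  have haS : a ≫ j ≫ P.hom = aS := by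
    show a ≫ j ≫ P.hom = Spec.map _ ≫ b ≫ P.hom
    rw [reassoc_of% hab, Over.w m]
  let T0 : ∀ {C : Type u} [CommRing C], (A ⧸ I →+* C) → Over S := fun θ => Over.mk (Spec.map (CommRingCat.ofHom θ) ≫ aS)
  let uB : ∀ {C : Type u} [CommRing C] (θ : A ⧸ I →+* C), T0 θ ⟶ P := fun θ =>
    Over.homMk (Spec.map (CommRingCat.ofHom θ) ≫ a ≫ j) (by
      show (_ ≫ a ≫ j) ≫ P.hom = _ ≫ aS
      rw [← haS, Category.assoc, Category.assoc])
  -- a class for `b`
  obtain ⟨κ, V, hV, hd⟩ := hP.locallySurjective (Over.mk bS) (Over.homMk b rfl)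
  obtain ⟨B₁, _, χ₁, hχ₁, Q₁, hQ₁, k, h₁, hh₁⟩ := cover_nhd V hV Q
  obtain ⟨d, ⟨M, rfl, hM⟩, hdM⟩ := hd k
  let g₁ : TB χ₁ ⟶ ovr (Over.mk bS) (V k) := Over.homMk h₁ (by
    show h₁ ≫ (V k).hom ≫ bS = _ ≫ bS
    rw [reassoc_of% hh₁])
  have hM₁ := Cls.pull hP g₁ (show Cls φ _ M from ⟨hM, hdM⟩)
  rw [show g₁ ≫ ovrHom (Over.mk bS) (V k) ≫ (Over.homMk b rfl : Over.mk bS ⟶ P) = vB χ₁ from
    Over.OverMorphism.ext (show h₁ ≫ (V k).hom ≫ b = _ ≫ b by rw [reassoc_of% hh₁])] at hM₁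
  let J₁ := I.map χ₁
  have hJ₁ : J₁ ^ 2 = ⊥ := by rw [← Ideal.map_pow, hI, Ideal.map_bot]
  let θ₁ := Ideal.quotientMap J₁ χ₁ Ideal.le_comap_map
  -- a class for `a`
  obtain ⟨ι, U, hU, hc⟩ := hP.locallySurjective (T0 θ₁) (uB θ₁)
  obtain ⟨B₂, _, χ₂, J₂, hle₂, hχ₂, hJ₂, Q₂, hQ₂, i, h₂, hh₂⟩ := cover_lift J₁ hJ₁ U hU Q₁
  obtain ⟨c, ⟨N, rfl, hN⟩, hcN⟩ := hc i
  let θ₂ := (Ideal.quotientMap J₂ χ₂ hle₂).comp θ₁
  let g₂ : T0 θ₂ ⟶ ovr (T0 θ₁) (U i) := Over.homMk h₂ (by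
    show h₂ ≫ (U i).hom ≫ Spec.map _ ≫ aS = Spec.map _ ≫ aS
    rw [reassoc_of% hh₂, ← Category.assoc, ← Spec.map_comp]
    rfl)
  have hN₂ := Cls.pull hP g₂ (show Cls φ _ N from ⟨hN, hcN⟩)
  rw [show g₂ ≫ ovrHom (T0 θ₁) (U i) ≫ uB θ₁ = uB θ₂ from Over.OverMorphism.ext (by
    show h₂ ≫ (U i).hom ≫ Spec.map _ ≫ a ≫ j = Spec.map _ ≫ a ≫ j
    rw [reassoc_of% hh₂, ← Category.assoc (Spec.map _) (Spec.map _), ← Spec.map_comp]
    rfl)] at hN₂
  let e₁₂ : TB (χ₂.comp χ₁) ⟶ TB χ₁ := Over.homMk (Spec.map (CommRingCat.ofHom χ₂)) (by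
    show Spec.map _ ≫ Spec.map _ ≫ bS = Spec.map _ ≫ bS
    rw [← Category.assoc, ← Spec.map_comp]
    rfl)
  have hM₂ := Cls.pull hP e₁₂ hM₁
  rw [show e₁₂ ≫ vB χ₁ = vB (χ₂.comp χ₁) from Over.OverMorphism.ext (by
    show Spec.map _ ≫ Spec.map _ ≫ b = Spec.map _ ≫ b
    rw [← Category.assoc, ← Spec.map_comp]
    rfl)] at hM₂
  have hcomm : ∀ {B : Type u} [CommRing B] {J : Ideal B} {ψ : A →+* B} {θ : A ⧸ I →+* B ⧸ J},
      θ.comp (Ideal.Quotient.mk I) = (Ideal.Quotient.mk J).comp ψ →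
      Spec.map (CommRingCat.ofHom (Ideal.Quotient.mk J)) ≫ Spec.map (CommRingCat.ofHom ψ) =
        Spec.map (CommRingCat.ofHom θ) ≫ Spec.map (CommRingCat.ofHom (Ideal.Quotient.mk I)) := fun hθ => by
    rw [← Spec.map_comp, ← Spec.map_comp, ← CommRingCat.ofHom_comp, ← CommRingCat.ofHom_comp, hθ]
  have hθ₂ : θ₂.comp (Ideal.Quotient.mk I) = (Ideal.Quotient.mk J₂).comp (χ₂.comp χ₁) := RingHom.ext fun x => rfl
  let e₂ : T0 θ₂ ⟶ TB (χ₂.comp χ₁) := Over.homMk (Spec.map (CommRingCat.ofHom (Ideal.Quotient.mk J₂))) (by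
    show Spec.map _ ≫ Spec.map _ ≫ bS = Spec.map _ ≫ Spec.map _ ≫ bS
    rw [← Category.assoc, hcomm hθ₂, Category.assoc])
  -- compare
  have heq : φ _ (PicF.cl (pb (PicF.XTmap f e₂) (pb (PicF.XTmap f e₁₂) (pb (PicF.XTmap f g₁) M)))) =
      φ _ (PicF.cl (CohB1.tensorPow (pb (PicF.XTmap f g₂) N) n)) := by
    refine (Cls.pull hP e₂ hM₂).2.trans ?_
    rw [hm _ _ hN₂.1, hN₂.2]
    refine Over.OverMorphism.ext ?_
    show Spec.map _ ≫ Spec.map _ ≫ b = (Spec.map _ ≫ a ≫ j) ≫ m.left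
    rw [← Category.assoc, hcomm hθ₂, Category.assoc, hab]
    simp only [Category.assoc]
    rfl
  obtain ⟨lam, W, hW, hiso⟩ := hP.locallyInjective (T0 θ₂) _ _ ⟨_, rfl, (Cls.pull hP e₂ hM₂).1⟩
    ⟨_, rfl, AmpleThLib.tensorPow_isInvertible hN₂.1 n⟩ heq
  obtain ⟨B₃, _, χ₃, J₃, hle₃, hχ₃, hJ₃, Q₃, hQ₃, w, h₃, hh₃⟩ := cover_lift J₂ hJ₂ W hW Q₂
  let ψ := χ₃.comp (χ₂.comp χ₁)
  have hle : I ≤ J₃.comap ψ := fun x hx => hle₃ (hle₂ (Ideal.mem_map_of_mem χ₁ hx))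
  let θ₃ := Ideal.quotientMap J₃ ψ hle
  have hθ₃' : θ₃ = (Ideal.quotientMap J₃ χ₃ hle₃).comp θ₂ := Ideal.Quotient.ringHom_ext (RingHom.ext fun x => rfl)
  let g₃ : T0 θ₃ ⟶ ovr (T0 θ₂) (W w) := Over.homMk h₃ (by
    show h₃ ≫ (W w).hom ≫ Spec.map _ ≫ aS = Spec.map _ ≫ aS
    rw [reassoc_of% hh₃, ← Category.assoc, ← Spec.map_comp, ← CommRingCat.ofHom_comp, hθ₃'])
  let r₃ : T0 θ₃ ⟶ T0 θ₂ := g₃ ≫ ovrHom (T0 θ₂) (W w)
  have hr₃ : r₃.left = Spec.map (CommRingCat.ofHom (Ideal.quotientMap J₃ χ₃ hle₃)) := hh₃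
  let e₂₃ : TB ψ ⟶ TB (χ₂.comp χ₁) := Over.homMk (Spec.map (CommRingCat.ofHom χ₃)) (by
    show Spec.map _ ≫ Spec.map _ ≫ bS = Spec.map _ ≫ bS
    rw [← Category.assoc, ← Spec.map_comp]
    rfl)
  let e₃ : T0 θ₃ ⟶ TB ψ := Over.homMk (Spec.map (CommRingCat.ofHom (Ideal.Quotient.mk J₃))) (by
    show Spec.map _ ≫ Spec.map _ ≫ bS = Spec.map _ ≫ Spec.map _ ≫ bS
    rw [← Category.assoc, hcomm (show θ₃.comp (Ideal.Quotient.mk I) = _ from RingHom.ext fun x => rfl),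
      Category.assoc])
  have hsq : e₃ ≫ e₂₃ = r₃ ≫ e₂ := Over.OverMorphism.ext (by
    rw [Over.comp_left, Over.comp_left, hr₃]
    show Spec.map _ ≫ Spec.map _ = Spec.map _ ≫ Spec.map _
    rw [← Spec.map_comp, ← Spec.map_comp]
    rfl)
  have hM₃ := Cls.pull hP e₂₃ hM₂
  rw [show e₂₃ ≫ vB (χ₂.comp χ₁) = vB ψ from Over.OverMorphism.ext (by
    show Spec.map _ ≫ Spec.map _ ≫ b = Spec.map _ ≫ b
    rw [← Category.assoc, ← Spec.map_comp]
    rfl)] at hM₃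
  have hN₃ := Cls.pull hP r₃ hN₂
  rw [show r₃ ≫ uB θ₂ = uB θ₃ from Over.OverMorphism.ext (by
    rw [Over.comp_left, hr₃]
    show Spec.map _ ≫ Spec.map _ ≫ a ≫ j = Spec.map _ ≫ a ≫ j
    rw [← Category.assoc, ← Spec.map_comp, ← CommRingCat.ofHom_comp, hθ₃'])] at hN₃
  have hn : IsUnit (n : B₃) := by
    refine isUnit_of_sq J₃ hJ₃ ?_
    rw [map_natCast]
    have h := isUnit_natCast_of_hom (P := P) n (Spec.map (CommRingCat.ofHom θ₃) ≫ a)
    have h' := h.map (Scheme.ΓSpecIso (CommRingCat.of (B₃ ⧸ J₃))).hom.hom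
    rwa [map_natCast] at h'
  have hiso3 : Nonempty (pb (PicF.XTmap f e₃) (pb (PicF.XTmap f e₂₃) (pb (PicF.XTmap f e₁₂) (pb (PicF.XTmap f g₁) M)))
      ≅ CohB1.tensorPow (pb (PicF.XTmap f r₃) (pb (PicF.XTmap f g₂) N)) n) := by
    obtain ⟨e⟩ := pullPow (f := f) r₃ hN₂.1 n
    refine ⟨Nonempty.some ?_ ≪≫ e⟩
    refine cl_eq_iff.1 ?_
    have h := congrArg (PicF.pullCl (PicF.XTmap f g₃)) (hiso w)
    rw [PicRelBCLib.pullCl_pullCl, PicRelBCLib.pullCl_pullCl, ← PicGrp.XTmap_comp] at h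
    refine Eq.trans ?_ h
    let M₂ := pb (PicF.XTmap f e₁₂) (pb (PicF.XTmap f g₁) M)
    show PicF.pullCl (PicF.XTmap f e₃) (PicF.pullCl (PicF.XTmap f e₂₃) (PicF.cl M₂)) =
      PicF.pullCl (PicF.XTmap f r₃) (PicF.pullCl (PicF.XTmap f e₂) (PicF.cl M₂))
    rw [PicRelBCLib.pullCl_pullCl, PicRelBCLib.pullCl_pullCl, ← PicGrp.XTmap_comp, ← PicGrp.XTmap_comp, hsq]
  obtain ⟨l, hl₁, hl₂⟩ := exists_root_point hP hm J₃ hJ₃ hn (Spec.map (CommRingCat.ofHom ψ) ≫ bS) e₃ rfl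
    (Category.id_comp _).symm hM₃ hN₃ hiso3
  let gs := Spec.map (CommRingCat.ofHom (Ideal.Quotient.mk J₃))
  have hls : gs ≫ l.left = Spec.map (CommRingCat.ofHom θ₃) ≫ a ≫ j := congrArg CommaMorphism.left hl₁
  haveI : Surjective gs := ⟨(AlgSpLib.thick_quotient B₃ J₃ hJ₃).2.surj⟩
  let l' := IsOpenImmersion.lift j l.left (by
    rintro _ ⟨z, rfl⟩
    obtain ⟨z₀, rfl⟩ := gs.surjective z
    exact ⟨(Spec.map (CommRingCat.ofHom θ₃) ≫ a) z₀, by
      rw [← Scheme.Hom.comp_apply, Category.assoc, ← hls, Scheme.Hom.comp_apply]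
      rfl⟩)
  have hl' : l' ≫ j = l.left := IsOpenImmersion.lift_fac _ _ _
  refine ⟨B₃, inferInstance, ψ, J₃, hle, RingHom.Etale.stableUnderComposition _ _ (RingHom.Etale.stableUnderComposition _ _ hχ₁ hχ₂) hχ₃, hJ₃, Q₃, ?_, l', ?_, ?_⟩
  · show Q₃.comap (χ₃.comp (χ₂.comp χ₁)) = Q
    rw [PrimeSpectrum.comap_comp_apply, hQ₃, PrimeSpectrum.comap_comp_apply, hQ₂, hQ₁]
  · rw [← Category.assoc, hl']
    exact congrArg CommaMorphism.left hl₂
  · rw [← cancel_mono j, Category.assoc, hl', Category.assoc]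
    exact hls

/-- **Multiplication by `n` is étale where `n` is invertible.** -/
theorem etale_basicOpen (hP : IsRelPic f P φ)
    (hm : ∀ (T : Over S) (L : (PicF.XT f T).Modules), PicF.IsInvertible L →
      φ T (PicF.cl (CohB1.tensorPow L n)) = φ T (PicF.cl L) ≫ m) :
    Etale ((Dn P n).ι ≫ m.left) := by
  let g := (Dn P n).ι ≫ m.left
  haveI hu : FormallyUnramified g := formallyUnramified_basicOpen hP hm
  haveI : IsLocallyNoetherian P.left := LocallyOfFiniteType.isLocallyNoetherian P.hom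
  haveI : LocallyOfFiniteType (g ≫ P.hom) := by
    rw [show g ≫ P.hom = (Dn P n).ι ≫ P.hom by rw [Category.assoc, Over.w m]]
    infer_instance
  haveI : LocallyOfFiniteType g := locallyOfFiniteType_of_comp g P.hom
  haveI : LocallyOfFinitePresentation g := LocallyOfFinitePresentation.iff_locallyOfFiniteType.2 inferInstance
  refine AlgSpLib.etale_of_lfp_formallyEtaleHom g fun A _ I hI a b hab => ?_
  choose B iB ψ J hle hψ hJ Q' hQ' l hl hla using exists_local_lift hP hm A I hI a b hab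
  let is := Spec.map (CommRingCat.ofHom (Ideal.Quotient.mk I))
  haveI : Surjective is := ⟨(AlgSpLib.thick_quotient A I hI).2.surj⟩
  have huniq : ∀ l₁ l₂ : Spec (CommRingCat.of A) ⟶ (Dn P n : Scheme.{u}), is ≫ l₁ = a ∧ l₁ ≫ g = b →
      is ≫ l₂ = a ∧ l₂ ≫ g = b → l₁ = l₂ := fun l₁ l₂ h₁ h₂ =>
    eq_of_lifts g is (h₁.2.trans h₂.2.symm) (h₁.1.trans h₂.1.symm)
  let T : Over P.left := Over.mk b
  let U : PrimeSpectrum A → T.left.Etale := fun Q =>
    MorphismProperty.Over.mk _ (Spec.map (CommRingCat.ofHom (ψ Q))) (by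
      exact (HasRingHomProperty.Spec_iff (P := @Etale)).2 (hψ Q))
  have hU : EtCoh.Covers U := fun Q => ⟨Q, Q' Q, hQ' Q⟩
  let li : ∀ Q, ovr T (U Q) ⟶ Over.mk g := fun Q => Over.homMk (l Q) (hl Q)
  obtain ⟨L, hL⟩ := exists_glue U hU li fun Q R Z p q hpq => by
    refine Over.OverMorphism.ext ?_
    show p.left ≫ l Q = q.left ≫ l R
    have hpq' : p.left ≫ Spec.map (CommRingCat.ofHom (ψ Q)) = q.left ≫ Spec.map (CommRingCat.ofHom (ψ R)) :=
      congrArg CommaMorphism.left hpq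
    let sQ := Spec.map (CommRingCat.ofHom (Ideal.Quotient.mk (J Q)))
    let sR := Spec.map (CommRingCat.ofHom (Ideal.Quotient.mk (J R)))
    haveI : Surjective sQ := ⟨(AlgSpLib.thick_quotient _ _ (hJ Q)).2.surj⟩
    haveI : Surjective sR := ⟨(AlgSpLib.thick_quotient _ _ (hJ R)).2.surj⟩
    haveI : Mono is := by
      haveI : IsClosedImmersion is := IsClosedImmersion.spec_of_surjective _ Ideal.Quotient.mk_surjective
      infer_instance
    let zQ := pullback.fst p.left sQ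
    let zR := pullback.fst q.left sR
    let i := pullback.fst zQ zR ≫ zQ
    haveI : Surjective i := inferInstance
    refine eq_of_lifts g i ?_ ?_
    · rw [Category.assoc, Category.assoc]
      show p.left ≫ l Q ≫ (Dn P n).ι ≫ m.left = q.left ≫ l R ≫ (Dn P n).ι ≫ m.left
      rw [hl, hl, reassoc_of% hpq']
    · let qQ : ∀ Q, Spec (CommRingCat.of (B Q ⧸ J Q)) ⟶ Spec (CommRingCat.of (A ⧸ I)) := fun Q =>
        Spec.map (CommRingCat.ofHom (Ideal.quotientMap (J Q) (ψ Q) (hle Q)))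
      have hq' : ∀ Q, qQ Q ≫ is = Spec.map (CommRingCat.ofHom (Ideal.Quotient.mk (J Q))) ≫
          Spec.map (CommRingCat.ofHom (ψ Q)) := fun Q => by
        rw [← Spec.map_comp, ← Spec.map_comp]
        rfl
      have e1 : i ≫ p.left ≫ l Q = (pullback.fst zQ zR ≫ pullback.snd p.left sQ ≫ qQ Q) ≫ a := by
        simp only [i, zQ, Category.assoc, pullback.condition_assoc]
        rw [show sQ ≫ l Q = qQ Q ≫ a from hla Q]
      have e2 : i ≫ q.left ≫ l R = (pullback.snd zQ zR ≫ pullback.snd q.left sR ≫ qQ R) ≫ a := by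
        show (pullback.fst zQ zR ≫ zQ) ≫ q.left ≫ l R = _
        rw [pullback.condition]
        simp only [zR, Category.assoc, pullback.condition_assoc]
        rw [show sR ≫ l R = qQ R ≫ a from hla R]
      rw [e1, e2]
      refine congrArg (· ≫ a) ((cancel_mono is).1 ?_)
      simp only [Category.assoc, hq']
      rw [show pullback.snd p.left sQ ≫ sQ ≫ Spec.map (CommRingCat.ofHom (ψ Q)) = zQ ≫ p.left ≫ Spec.map (CommRingCat.ofHom (ψ Q)) from
          (pullback.condition_assoc _).symm,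
        show pullback.snd q.left sR ≫ sR ≫ Spec.map (CommRingCat.ofHom (ψ R)) = zR ≫ q.left ≫ Spec.map (CommRingCat.ofHom (ψ R)) from
          (pullback.condition_assoc _).symm, hpq']
      exact pullback.condition_assoc _
  have hb : L.left ≫ g = b := Over.w L
  refine ⟨L.left, ⟨?_, hb⟩, fun l' h' => huniq _ _ h' ⟨?_, hb⟩⟩
  all_goals
    refine congrArg CommaMorphism.left (cover_ext (T := Over.mk (is ≫ b)) (P := Over.mk g)
      (fun Q => MorphismProperty.Over.mk _ (pullback.fst is (Spec.map (CommRingCat.ofHom (ψ Q)))) (by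
        exact MorphismProperty.pullback_fst _ _ ((HasRingHomProperty.Spec_iff (P := @Etale)).2 (hψ Q))))
      (fun z => ?_) (g := Over.homMk (is ≫ L.left) (by rw [Category.assoc]; exact congrArg (is ≫ ·) hb))
      (h := Over.homMk a (by exact hab.symm)) fun Q => ?_)
    · obtain ⟨w, hw, -⟩ := Scheme.Pullback.exists_preimage_pullback (f := is)
        (g := Spec.map (CommRingCat.ofHom (ψ (is z)))) z (Q' (is z)) (hQ' (is z)).symm
      exact ⟨is z, w, hw⟩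
    · refine Over.OverMorphism.ext ?_
      show pullback.fst _ _ ≫ is ≫ L.left = pullback.fst _ _ ≫ a
      haveI : IsClosedImmersion is := IsClosedImmersion.spec_of_surjective _ Ideal.Quotient.mk_surjective
      let sQ := Spec.map (CommRingCat.ofHom (Ideal.Quotient.mk (J Q)))
      let qQ := Spec.map (CommRingCat.ofHom (Ideal.quotientMap (J Q) (ψ Q) (hle Q)))
      have hLQ : Spec.map (CommRingCat.ofHom (ψ Q)) ≫ L.left = l Q := congrArg CommaMorphism.left (hL Q)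
      let i : Spec (CommRingCat.of (B Q ⧸ J Q)) ⟶ pullback is (Spec.map (CommRingCat.ofHom (ψ Q))) :=
        pullback.lift qQ sQ (by rw [← Spec.map_comp, ← Spec.map_comp]; rfl)
      haveI : Surjective sQ := ⟨(AlgSpLib.thick_quotient _ _ (hJ Q)).2.surj⟩
      haveI : Surjective i := ⟨fun w => by
        obtain ⟨v, hv⟩ := sQ.surjective (pullback.snd is _ w)
        refine ⟨v, (pullback.snd is (Spec.map (CommRingCat.ofHom (ψ Q)))).isClosedEmbedding.injective ?_⟩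
        rw [← Scheme.Hom.comp_apply, pullback.lift_snd]
        exact hv⟩
      rw [pullback.condition_assoc, hLQ]
      refine eq_of_lifts g i ?_ ?_
      · rw [Category.assoc, Category.assoc, show l Q ≫ g = _ from hl Q, show a ≫ g = is ≫ b from hab.symm,
          pullback.condition_assoc]
      · rw [pullback.lift_snd_assoc, pullback.lift_fst_assoc]
        exact hla Q

end PicRepLib
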