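import Groth.Agent.PicRepLib.Lft
import Groth.Agent.PicH1Lib.Adic
import Groth.Agent.PicH1Lib.Lift
import Groth.Agent.CohCmpLib.EulerFibre
import Groth.Agent.CohCmpLib.FamilyPic
import Groth.Agent.AlgSpLib.SmallExtScheme
import Groth.Agent.S1417
import Groth.Agent.S0115

/-!
# Smoothness of the Picard scheme where `H²` of the fibres vanishes
-/

set_option autoImplicit false
set_option linter.style.haveILetI false
set_option maxRecDepth 8000
set_option maxHeartbeats 1000000
universe u

open CategoryTheory CategoryTheory.Limits AlgebraicGeometry TopologicalSpace Opposite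
open KFlatLib (pb)

noncomputable section

namespace PicRepLib

variable {X S : Scheme.{u}} {f : X ⟶ S}

theorem structure_hyps [Flat f] : Coh.IsQCoh (Coh.structureModule X) ∧ CohB1.IsFP (Coh.structureModule X) ∧
    FlatMod.IsFlatOver f (Coh.structureModule X) :=
  CohCmpLib.rank_one_hyps f (CohCmpLib.rank_one_structureModule X)

/-- The cohomology of the structure sheaf of a field-valued fibre is computed by the Betti number. -/
theorem finrank_HH_fieldPt [IsProper f] [Flat f] [LocallyOfFinitePresentation f] {K : Type u} [Field K]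
    {Z : Scheme.{u}} {g' : Z ⟶ X} {f' : Z ⟶ Spec (CommRingCat.of K)} {v : Spec (CommRingCat.of K) ⟶ S}
    (H : IsPullback g' f' f v) (z : Spec (CommRingCat.of K)) (p : ℕ) :
    Subsingleton (Coh.HH Z (Coh.structureModule Z) p) ↔ PerfAux.betti f (Coh.structureModule X) (v z) p = 0 := by
  obtain ⟨hq, hfp, hfl⟩ := structure_hyps (f := f)
  haveI := hq
  obtain ⟨W, C, hW, hz⟩ := CohCmpLib.exists_chart_at hfp hfl (v z)
  have h := C.finrank_bc hW H (fun z' => by rwa [Subsingleton.elim (α := PrimeSpectrum K) z' z]) z p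
  letI : Z.Over (Spec (CommRingCat.of K)) := ⟨f'⟩
  haveI : IsProper (Z ↘ Spec (CommRingCat.of K)) := MorphismProperty.of_isPullback H ‹IsProper f›
  let e : (Scheme.Modules.pullback g').obj (Coh.structureModule X) ≅ Coh.structureModule Z :=
    KFlatLib.pullUnitIso g'
  haveI : Module.Finite K (Coh.HH Z (Coh.structureModule Z) p) :=
    CurvLib.finite_HH (DevissLib.isCoh_structureModule Z) p
  rw [← h, (CurvLib.hIso (k := K) e p).finrank_eq]
  exact Module.finrank_zero_iff.symm

/-- Vanishing of `H^p` of the structure sheaf spreads to a neighbourhood. -/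
theorem exists_open_vanishing [IsProper f] [Flat f] [LocallyOfFinitePresentation f] (s : S) (p : ℕ)
    (h : Subsingleton (Coh.HH (pullback f (S.fromSpecResidueField s)) (Coh.structureModule _) p)) :
    ∃ U : S.Opens, s ∈ U ∧ ∀ y ∈ U, PerfAux.betti f (Coh.structureModule X) y p = 0 := by
  obtain ⟨hq, hfp, hfl⟩ := structure_hyps (f := f)
  haveI := hq
  have key : ∀ y : S, PerfAux.betti f (Coh.structureModule X) y p = 0 ↔
      ¬ Nontrivial (CohIII.fiberH f (Coh.structureModule X) y p) := fun y => by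
    rw [not_nontrivial_iff_subsingleton]
    have h1 := finrank_HH_fieldPt (IsPullback.of_hasPullback f (S.fromSpecResidueField y))
      (IsLocalRing.closedPoint (S.residueField y)) p
    have h1' := h1.trans (iff_of_eq (congrArg (fun z => PerfAux.betti f (Coh.structureModule X) z p = 0)
      (Scheme.fromSpecResidueField_apply y (IsLocalRing.closedPoint (S.residueField y)))))
    rw [← h1']
    let e : CohIII.fiberMod f (Coh.structureModule X) y ≅ Coh.structureModule (f.fiber y) :=
      KFlatLib.pullUnitIso (f.fiberι y)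
    exact ⟨fun h2 => SerreVanLib.subsingleton_HH_of_iso e p h2, fun h2 => SerreVanLib.subsingleton_HH_of_iso e.symm p h2⟩
  refine ⟨⟨_, (CohCmpLib.isClosed_nontrivial_fiberH f hfp hfl p).isOpen_compl⟩, ?_, fun y hy => (key y).2 hy⟩
  refine (key s).1 ?_
  have h1 := (finrank_HH_fieldPt (IsPullback.of_hasPullback f (S.fromSpecResidueField s))
    (IsLocalRing.closedPoint (S.residueField s)) p).1 h
  exact (congrArg (fun z => PerfAux.betti f (Coh.structureModule X) z p = 0)
    (Scheme.fromSpecResidueField_apply s (IsLocalRing.closedPoint (S.residueField s)))).mp h1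

/-- Classes lift along small extensions of Artinian local rings. -/
theorem exists_lift_class [IsProper f] [Flat f] [LocallyOfFinitePresentation f] {B B' : Type u}
    [CommRing B] [CommRing B'] [IsLocalRing B'] [IsArtinianRing B'] (φ : B' →+* B) (hφ : Function.Surjective φ)
    (hne : RingHom.ker φ ≠ ⊤) (hker : IsLocalRing.maximalIdeal B' * RingHom.ker φ = ⊥)
    (β : Spec (CommRingCat.of B') ⟶ S)
    (hv : PerfAux.betti f (Coh.structureModule X) (β (IsLocalRing.closedPoint B')) 2 = 0)
    (c : PicF.Cl (PicF.XT f (Over.mk (Spec.map (CommRingCat.ofHom φ) ≫ β)))) (hc : PicF.IsInvertibleCl c) :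
    ∃ c' : PicF.Cl (PicF.XT f (Over.mk β)), PicF.IsInvertibleCl c' ∧
      PicF.pullCl (PicF.XTmap f (Over.homMk (Spec.map (CommRingCat.ofHom φ)) :
        Over.mk (Spec.map (CommRingCat.ofHom φ) ≫ β) ⟶ Over.mk β)) c' = c := by
  let g := Spec.map (CommRingCat.ofHom φ)
  haveI : IsClosedImmersion g := IsClosedImmersion.spec_of_surjective _ hφ
  let T : Over S := Over.mk (g ≫ β)
  let T' : Over S := Over.mk β
  let gT : T ⟶ T' := Over.homMk g rfl
  let t : PicF.XT f T ⟶ PicF.XT f T' := PicF.XTmap f gT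
  let f' : PicF.XT f T' ⟶ Spec (CommRingCat.of B') := pullback.snd f β
  have hsq : IsPullback t (pullback.snd f (g ≫ β)) f' g := by
    refine IsPullback.of_right ?_ (PicRelBCLib.XTmap_snd f gT) (IsPullback.of_hasPullback f β)
    rw [show t ≫ pullback.fst f β = pullback.fst f (g ≫ β) from PicRelBCLib.XTmap_fst f gT]
    exact IsPullback.of_hasPullback f (g ≫ β)
  haveI : IsClosedImmersion t := MorphismProperty.of_isPullback hsq.flip inferInstance
  have hkt : t.ker = g.ker.comap f' := by
    rw [← hsq.isoPullback_hom_fst, Scheme.Hom.ker_comp_of_isIso, Scheme.IdealSheafData.ker_fst_of_isClosedImmersion]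
  have hle : RingHom.ker φ ≤ IsLocalRing.maximalIdeal B' := IsLocalRing.le_maximalIdeal hne
  have hsq0 : RingHom.ker φ * RingHom.ker φ = ⊥ :=
    le_bot_iff.1 ((Ideal.mul_mono_left hle).trans hker.le)
  let k₀ := IsLocalRing.ResidueField B'
  let g₀ : Spec (CommRingCat.of k₀) ⟶ Spec (CommRingCat.of B') :=
    Spec.map (CommRingCat.ofHom (IsLocalRing.residue B'))
  haveI : IsClosedImmersion g₀ := IsClosedImmersion.spec_of_surjective _ IsLocalRing.residue_surjective
  have hH : IsPullback (pullback.fst f' g₀ ≫ pullback.fst f β) (pullback.snd f' g₀) f (g₀ ≫ β) :=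
    (IsPullback.of_hasPullback f' g₀).paste_horiz (IsPullback.of_hasPullback f β)
  have h0 : Subsingleton (Coh.HH (pullback f' g₀) (Coh.structureModule _) 2) := by
    refine (finrank_HH_fieldPt hH (IsLocalRing.closedPoint k₀) 2).2 ?_
    have e : (g₀ ≫ β) (IsLocalRing.closedPoint k₀) = β (IsLocalRing.closedPoint B') := by
      rw [Scheme.Hom.comp_apply]
      exact congrArg β (IsLocalRing.comap_closedPoint (IsLocalRing.residue B'))
    rw [e]
    exact hv
  haveI : Flat f' := MorphismProperty.pullback_snd f β ‹Flat f›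
  have h2 : Subsingleton (Coh.HH (PicF.XT f T') (ClSub.idealMod t.ker) 2) := by
    rw [hkt]
    exact PicH1Lib.subsingleton_HH_idealMod_comap f' g.ker g₀
      (PicH1Lib.ker_mul_ker_eq_bot _ _ (by rw [IsLocalRing.ker_residue]; exact hker))
      (IsPullback.of_hasPullback f' g₀) 2 h0
  have hI : t.ker * t.ker = ⊥ := by
    rw [hkt]
    exact PicH1Lib.comap_mul_self_eq_bot f' _ (PicH1Lib.ker_mul_ker_eq_bot _ _ hsq0)
  obtain ⟨L, rfl, hL⟩ := hc
  obtain ⟨L', hL', ⟨e⟩⟩ := PicH1Lib.exists_pullback_iso t hI h2 hL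
  exact ⟨PicF.cl L', ⟨L', rfl, hL'⟩, Quot.sound ⟨e⟩⟩

variable {P : Over S} {φ : ∀ T : Over S, PicF.Cl (PicF.XT f T) → (T ⟶ P)}

/-- **The Picard scheme is smooth over the locus where `H²` of the fibres vanishes.** -/
theorem smooth_over [IsLocallyNoetherian S] [IsProper f] [Flat f] (hP : PicRel.IsRelPic f P φ) (U : S.Opens)
    (hU : ∀ y ∈ U, PerfAux.betti f (Coh.structureModule X) y 2 = 0) :
    Smooth ((P.hom ⁻¹ᵁ U).ι ≫ P.hom) := by
  haveI : LocallyOfFinitePresentation f := LocallyOfFinitePresentation.iff_locallyOfFiniteType.2 inferInstance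
  haveI : LocallyOfFiniteType P.hom := locallyOfFiniteType hP
  obtain ⟨ι, V, hV, hc⟩ := hP.locallySurjective P (𝟙 P)
  let O : P.left.Opens := P.hom ⁻¹ᵁ U
  let W : ∀ i, (V i).left.Opens := fun i => (V i).hom ⁻¹ᵁ O
  have hsm : ∀ i, Smooth ((W i).ι ≫ (V i).hom ≫ P.hom) := fun i => by
    haveI : Etale (V i).hom := (V i).prop
    refine (Groth.Agent.S1417.result _).2 fun B B' _ _ _ _ _ _ ψ ε hψ hε hεm α β _ w => ?_
    obtain ⟨c, hci, hcφ⟩ := hc i
    let g := Spec.map (CommRingCat.ofHom ψ)
    have hne : RingHom.ker ψ ≠ ⊤ := RingHom.ker_ne_top ψ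
    have hker : IsLocalRing.maximalIdeal B' * RingHom.ker ψ = ⊥ := by
      rw [eq_bot_iff, hε, Ideal.mul_le]
      intro m hm x hx
      obtain ⟨a, rfl⟩ := Ideal.mem_span_singleton'.1 hx
      rw [Submodule.mem_bot, mul_comm a ε, ← mul_assoc, mul_comm m ε, hεm m hm, zero_mul]
    have hsq : RingHom.ker ψ ^ 2 = ⊥ :=
      le_bot_iff.1 (((pow_two (RingHom.ker ψ)).le.trans (Ideal.mul_mono_left (IsLocalRing.le_maximalIdeal hne))).trans hker.le)
    let z₀ := IsLocalRing.closedPoint B
    have hz : g z₀ = IsLocalRing.closedPoint B' := by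
      haveI : IsLocalHom ψ := IsLocalHom.of_surjective ψ hψ
      exact IsLocalRing.comap_closedPoint ψ
    have hv : PerfAux.betti f (Coh.structureModule X) (β (IsLocalRing.closedPoint B')) 2 = 0 := by
      refine hU _ ?_
      rw [← hz, ← Scheme.Hom.comp_apply, w, Scheme.Hom.comp_apply, Scheme.Hom.comp_apply]
      exact (α z₀).2
    let T : Over S := Over.mk (g ≫ β)
    let a : T ⟶ PicRel.ovr P (V i) := Over.homMk (α ≫ (W i).ι)
      (show (α ≫ (W i).ι) ≫ (V i).hom ≫ P.hom = g ≫ β by rw [w]; simp only [Category.assoc])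
    obtain ⟨c', hc', hpull⟩ := exists_lift_class ψ hψ hne hker β hv (PicF.pullCl (PicF.XTmap f a) c)
      (PicRelBCLib.isInvertibleCl_pullCl _ hci)
    let γ₀ := φ (Over.mk β) c'
    have hg₀ : g ≫ γ₀.left = α ≫ (W i).ι ≫ (V i).hom := by
      have h1 := hP.natural (Over.mk β) T (Over.homMk g rfl) c' hc'
      rw [hpull, hP.natural _ _ a c hci, hcφ, Category.comp_id] at h1
      exact (congrArg CommaMorphism.left h1).symm.trans (Category.assoc _ _ _)
    obtain ⟨γ, hγ1, hγ2⟩ := AlgSpLib.exists_lift_sq_zero_of_smooth (V i).hom ψ hψ hsq (α ≫ (W i).ι) γ₀.left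
      (hg₀.trans (Category.assoc _ _ _).symm)
    have hrange : Set.range γ ⊆ Set.range (W i).ι := by
      haveI : Surjective g := ⟨fun y => ⟨z₀, by
        refine hz.trans ?_
        exact Subsingleton.elim (α := PrimeSpectrum B') _ _⟩⟩
      rintro _ ⟨y, rfl⟩
      obtain ⟨x, rfl⟩ := g.surjective y
      refine ⟨α x, ?_⟩
      rw [← Scheme.Hom.comp_apply, ← Scheme.Hom.comp_apply, hγ1]
    let γ' := IsOpenImmersion.lift (W i).ι γ hrange
    have hfac : γ' ≫ (W i).ι = γ := IsOpenImmersion.lift_fac _ _ _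
    refine ⟨γ', (cancel_mono (W i).ι).1 (by rw [Category.assoc, hfac]; exact hγ1), ?_⟩
    rw [← Category.assoc, hfac, ← Category.assoc, hγ2]
    exact Over.w γ₀
  let W' : ∀ i, (W i).toScheme ⟶ O.toScheme := fun i => (V i).hom ∣_ O
  let p : (∐ fun i => (W i).toScheme) ⟶ O.toScheme := Sigma.desc W'
  have het : ∀ i, Etale (W' i) := fun i => IsZariskiLocalAtTarget.restrict (V i).prop O
  haveI : Flat p := IsZariskiLocalAtSource.sigmaDesc (P := @Flat) fun i => by haveI := het i; infer_instance
  haveI : LocallyOfFinitePresentation p :=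
    IsZariskiLocalAtSource.sigmaDesc (P := @LocallyOfFinitePresentation) fun i => by haveI := het i; infer_instance
  haveI : Surjective p := ⟨fun x => by
    obtain ⟨i, y, hy⟩ := hV (O.ι x)
    have hyW : y ∈ W i := by
      show (V i).hom y ∈ O
      exact hy.symm ▸ x.2
    refine ⟨(Sigma.ι (fun i => (W i).toScheme) i) ⟨y, hyW⟩, O.ι.isOpenEmbedding.injective ?_⟩
    rw [← Scheme.Hom.comp_apply, ← Scheme.Hom.comp_apply, ← Category.assoc, Sigma.ι_desc, morphismRestrict_ι]
    exact hy⟩
  haveI : Smooth (p ≫ O.ι ≫ P.hom) := by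
    have e : p ≫ O.ι ≫ P.hom = Sigma.desc fun i => (W i).ι ≫ (V i).hom ≫ P.hom := Sigma.hom_ext _ _ fun i => by
      simp [p, W', W]
    rw [e]
    exact IsZariskiLocalAtSource.sigmaDesc (P := @Smooth) hsm
  exact Groth.Agent.S0115.result p (O.ι ≫ P.hom)

end PicRepLib

end
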