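import Groth.Agent.PicH1Lib.Lift
import Groth.Agent.PicH1Lib.Tensor
import Groth.Agent.HilbPolyLib.Twist

/-!
# Roots of line bundles extend along square zero thickenings when the exponent is invertible
-/

set_option autoImplicit false
set_option linter.style.haveILetI false
universe u

open CategoryTheory CategoryTheory.Limits AlgebraicGeometry TopologicalSpace Opposite
open KFlatLib (pb)
open PicH1Lib (Rel H1 H1map)

noncomputable section

namespace PicRepLib

/-- The class of a power. -/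
theorem rel_tensorPow {X₀ X' : Scheme.{u}} {f : X₀ ⟶ X'} {L : X₀.Modules} {c : H1 f} (h : Rel f L c) :
    ∀ n : ℕ, Rel f (CohB1.tensorPow L n) (n • c)
  | 0 => by rw [zero_nsmul]; exact PicH1Lib.rel_structureModule f
  | n + 1 => by rw [succ_nsmul]; exact (rel_tensorPow h n).tensor h

/-- Powers respect isomorphisms. -/
def powCongr {X₀ : Scheme.{u}} {L M : X₀.Modules} (e : L ≅ M) : ∀ n, CohB1.tensorPow L n ≅ CohB1.tensorPow M n
  | 0 => Iso.refl _
  | n + 1 => HilbPolyLib.congrLeft (powCongr e n) L ≪≫ HilbPolyLib.congrRight _ e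

variable {Z T : Scheme.{u}}

theorem nsmul_bijective_HH (M : T.Modules) (q n : ℕ) (hn : IsUnit (n : Γ(T, ⊤))) :
    Function.Bijective fun x : Coh.HH T M q => n • x := by
  obtain ⟨v, hv⟩ := hn
  have e : ∀ x : Coh.HH T M q, n • x = (v.1 : Γ(T, ⊤)) • x := fun x => by
    rw [hv]
    exact (Nat.cast_smul_eq_nsmul Γ(T, ⊤) n x).symm
  simp only [e]
  exact (MulAction.bijective v : Function.Bijective fun x : Coh.HH T M q => v • x)

variable (t : Z ⟶ T) [IsClosedImmersion t] (hI : t.ker * t.ker = ⊥)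

include hI in
/-- An `n`-th root on the closed subscheme of a line bundle of the thickening extends uniquely enough. -/
theorem exists_root (n : ℕ) (hn : IsUnit (n : Γ(T, ⊤))) {N : Z.Modules} (hN : PicF.IsInvertible N) {M : T.Modules}
    (hM : PicF.IsInvertible M) (e : Nonempty (pb t M ≅ CohB1.tensorPow N n)) :
    ∃ L : T.Modules, PicF.IsInvertible L ∧ Nonempty (pb t L ≅ N) ∧ Nonempty (CohB1.tensorPow L n ≅ M) := by
  have hw : t.toImage ≫ t.ker.subschemeι = t := t.toImage_imageι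
  let I := t.ker
  let N' := pb (inv t.toImage) N
  have hN' : PicF.IsInvertible N' := AmpleDevLib.isInvertible_pb _ hN
  obtain ⟨c, hc⟩ := PicH1Lib.exists_rel_of_isInvertible (PicH1Lib.isHomeomorph_of_sq_zero hI) hN'
  obtain ⟨d, hd⟩ := PicH1Lib.exists_rel_of_isInvertible (PicH1Lib.isHomeomorph_id T) hM
  have hback : Nonempty (pb t.toImage N' ≅ N) :=
    ⟨(Scheme.Modules.pullbackComp _ _).app N ≪≫
      (Scheme.Modules.pullbackCongr (IsIso.hom_inv_id t.toImage)).app N ≪≫ (Scheme.Modules.pullbackId _).app N⟩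
  have hdn : H1map I.subschemeι d = n • c := by
    obtain ⟨e⟩ := e
    obtain ⟨eN⟩ := hback
    obtain ⟨w, -⟩ := AmpleDevLib.exists_pullPowIso t.toImage hN' n
    have e1 : pb t.toImage (pb I.subschemeι M) ≅ pb t.toImage (CohB1.tensorPow N' n) :=
      (Scheme.Modules.pullbackComp _ _).app M ≪≫ (Scheme.Modules.pullbackCongr hw).app M ≪≫ e ≪≫
        (powCongr eN n).symm ≪≫ w.symm
    obtain ⟨e2⟩ := PicPnLib.iso_of_pb_iso t.toImage e1
    exact (hd.pullback.of_iso _ e2).unique _ (rel_tensorPow hc n)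
  have hinj : ∀ q, Function.Bijective fun x : QCohLib.HU ((QCohLib.toAbF T).obj (ClSub.idealMod I)) q ⊤ => n • x :=
    fun q => by
      let E := PicH1Lib.hI' I q
      have e0 : (fun x => n • x) = E ∘ (fun x => n • x) ∘ E.symm := funext fun x => by
        show n • x = E (n • E.symm x)
        rw [map_nsmul, AddEquiv.apply_symm_apply]
      rw [e0]
      exact E.bijective.comp ((nsmul_bijective_HH _ q n hn).comp E.symm.bijective)
  have hobs : PicH1Lib.obs hI c = 0 := (hinj 2).1 (by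
    show n • PicH1Lib.obs hI c = n • 0
    rw [← map_nsmul, ← hdn, nsmul_zero, PicH1Lib.obs_eq_zero_iff]
    exact ⟨d, rfl⟩)
  obtain ⟨d₀, hd₀⟩ := (PicH1Lib.obs_eq_zero_iff hI c).mp hobs
  obtain ⟨x, hx⟩ := (PicH1Lib.H1map_eq_zero_iff hI (n • d₀ - d)).mp
    (by rw [map_sub, map_nsmul, hd₀, hdn, sub_self])
  obtain ⟨y, hy⟩ := (hinj 1).2 x
  dsimp only at hy
  obtain ⟨L, hL⟩ := PicH1Lib.exists_module_rel (𝟙 T) (d₀ - PicH1Lib.epsH1 hI y)
  have hres : H1map I.subschemeι (d₀ - PicH1Lib.epsH1 hI y) = c := by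
    rw [map_sub, hd₀, (PicH1Lib.H1map_eq_zero_iff hI _).mpr ⟨y, rfl⟩, sub_zero]
  have hpow : n • (d₀ - PicH1Lib.epsH1 hI y) = d := by
    rw [nsmul_sub, ← map_nsmul, hy, hx, sub_sub_cancel]
  obtain ⟨e2⟩ := (hres ▸ hL.pullback : Rel I.subschemeι (pb I.subschemeι L) c).iso_of_eq hc
  obtain ⟨eN⟩ := hback
  refine ⟨L, hL.isInvertible, ⟨((Scheme.Modules.pullbackCongr hw).app L).symm ≪≫
    ((Scheme.Modules.pullbackComp _ _).app L).symm ≪≫ (Scheme.Modules.pullback t.toImage).mapIso e2 ≪≫ eN⟩, ?_⟩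
  exact (hpow ▸ rel_tensorPow hL n : Rel (𝟙 T) (CohB1.tensorPow L n) d).iso_of_eq hd

end PicRepLib
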